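/-
Isometry groups of sums of quadratic spaces in odd characteristic: spinor norms, splittings, unipotent parts.
-/
import Cfsg.Agent.Lib.Orthogonal.Counts
import Cfsg.Agent.Lib.Orthogonal.Simple
import Cfsg.Agent.Lib.Orthogonal.LowDim
import Cfsg.Agent.Lib.Orthogonal.Frames
import Cfsg.Agent.Lib.LinearBlock.OrthTypeElem

set_option autoImplicit false
set_option linter.all false

universe u v w

namespace Cfsg.Agent.OddOrth

open QuadraticMap Module Cfsg.Agent.Orth

section Forms

variable {F : Type u} [Field F] {A : Type v} [AddCommGroup A] [Module F A] {B : Type w} [AddCommGroup B] [Module F B]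
  {QA : QuadraticForm F A} {QB : QuadraticForm F B}

theorem polar_prod (QA : QuadraticForm F A) (QB : QuadraticForm F B) (x y : A × B) :
    polar (QA.prod QB) x y = polar QA x.1 y.1 + polar QB x.2 y.2 := by
  simp only [polar, QuadraticMap.prod_apply, Prod.fst_add, Prod.snd_add]
  ring

theorem nondeg_prod (hA : (polarBilin QA).Nondegenerate) (hB : (polarBilin QB).Nondegenerate) :
    (polarBilin (QA.prod QB)).Nondegenerate := by
  refine nondeg_of fun x hx => Prod.ext (eq_zero_of_b hA fun y => ?_) (eq_zero_of_b hB fun y => ?_)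
  · have := hx (y, 0)
    rwa [polar_prod, b_zero_right, add_zero] at this
  · have := hx (0, y)
    rwa [polar_prod, b_zero_right, zero_add] at this

/-- Pairs of isometries of the summands. -/
def oProd (QA : QuadraticForm F A) (QB : QuadraticForm F B) : oGroup QA × oGroup QB →* oGroup (QA.prod QB) where
  toFun g := ⟨g.1.1.prodCongr g.2.1, fun x => by
    show (QA.prod QB) (g.1.1 x.1, g.2.1 x.2) = (QA.prod QB) x
    rw [QuadraticMap.prod_apply, QuadraticMap.prod_apply, g.1.2, g.2.2]⟩
  map_one' := Subtype.ext (LinearEquiv.ext fun x => rfl)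
  map_mul' a b := Subtype.ext (LinearEquiv.ext fun x => rfl)

theorem oProd_apply (g : oGroup QA × oGroup QB) (x : A × B) :
    (oProd QA QB g).1 x = (g.1.1 x.1, g.2.1 x.2) := rfl

theorem oProd_injective : Function.Injective (oProd QA QB) := by
  intro a b h
  refine Prod.ext (Subtype.ext (LinearEquiv.ext fun x => ?_)) (Subtype.ext (LinearEquiv.ext fun x => ?_))
  · exact congrArg Prod.fst (LinearEquiv.congr_fun (congrArg Subtype.val h) (x, 0))
  · exact congrArg Prod.snd (LinearEquiv.congr_fun (congrArg Subtype.val h) (0, x))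

theorem orderOf_oProd (a : oGroup QA) (b : oGroup QB) :
    orderOf (oProd QA QB (a, b)) = Nat.lcm (orderOf a) (orderOf b) := by
  rw [orderOf_injective _ oProd_injective, Prod.orderOf_mk]

/-- Isometries as endomorphisms. -/
def toEnd (QA : QuadraticForm F A) : oGroup QA →* End F A where
  toFun g := g.1.toLinearMap
  map_one' := rfl
  map_mul' a b := rfl

theorem toEnd_apply (g : oGroup QA) (x : A) : toEnd QA g x = g.1 x := rfl

theorem toEnd_injective : Function.Injective (toEnd QA) := fun a b h =>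
  Subtype.ext (LinearEquiv.toLinearMap_injective h)

theorem pow_apply (g : oGroup QA) (i : ℕ) (x : A) : (g ^ i).1 x = (toEnd QA g ^ i) x := by
  rw [← map_pow, toEnd_apply]

/-- A group homomorphism maps Omega into Omega. -/
theorem map_omg (f : oGroup QA →* oGroup QB) {g : oGroup QA} (hg : g ∈ omg QA) : f g ∈ omg QB := by
  have h : (commutator (oGroup QA)).map f ≤ commutator (oGroup QB) := by
    rw [commutator_def, commutator_def, Subgroup.map_commutator]
    exact Subgroup.commutator_mono le_top le_top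
  exact h (Subgroup.mem_map_of_mem f hg)

theorem omg_congr_iff (e : oGroup QA ≃* oGroup QB) (g : oGroup QA) : e g ∈ omg QB ↔ g ∈ omg QA :=
  ⟨fun h => by simpa using map_omg e.symm.toMonoidHom h, fun h => map_omg e.toMonoidHom h⟩

/-- The squaring form on the line. -/
abbrev sq1 (F : Type u) [Field F] : QuadraticForm F F := QuadraticMap.sq

theorem sq1_apply (x : F) : sq1 F x = x * x := rfl

theorem polar_sq1 (x y : F) : polar (sq1 F) x y = 2 * (x * y) := by
  simp only [polar, sq1_apply]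
  ring

theorem sq1_nondeg (h2 : (2 : F) ≠ 0) : (polarBilin (sq1 F)).Nondegenerate := by
  refine nondeg_of fun x hx => ?_
  have := hx 1
  rw [polar_sq1, mul_one] at this
  exact (mul_eq_zero.1 this).resolve_left h2

end Forms

section Spinor

variable {F : Type u} [Field F] [Fintype F] {V : Type v} [AddCommGroup V] [Module F V] [FiniteDimensional F V]
  {Q : QuadraticForm F V}

theorem card_ne_two (h2 : (2 : F) ≠ 0) : Fintype.card F ≠ 2 := fun hq => h2 (by
  have h := Nat.cast_card_eq_zero F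
  rw [hq] at h
  exact_mod_cast h)

theorem finite_oGroup (Q : QuadraticForm F V) : Finite (oGroup Q) := by
  haveI : Finite V := Module.finite_of_finite F
  haveI : Finite (V ≃ₗ[F] V) := Finite.of_injective (fun g => (g : V → V)) DFunLike.coe_injective
  infer_instance

/-- The spinor invariant. -/
noncomputable def chi (h2 : (2 : F) ≠ 0) (hQ : (polarBilin Q).Nondegenerate) : oGroup Q →* SpinVal F :=
  (exists_spinor hQ (Or.inl (card_ne_two h2))).choose

theorem chi_refl (h2 : (2 : F) ≠ 0) (hQ : (polarBilin Q).Nondegenerate) (r : oGroup Q) (a : V)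
    (h : IsRefl r.1 Q a) : chi h2 hQ r = reflVal Q a :=
  (exists_spinor hQ (Or.inl (card_ne_two h2))).choose_spec r a h

theorem hom_ext (h2 : (2 : F) ≠ 0) (hQ : (polarBilin Q).Nondegenerate) {M : Type*} [Monoid M]
    {f g : oGroup Q →* M} (h : ∀ (r : oGroup Q) (a : V), IsRefl r.1 Q a → f r = g r) : f = g := by
  refine MonoidHom.ext fun x => ?_
  obtain ⟨y, hy, hyx⟩ := oGroup_le_of_refl hQ (Or.inl (card_ne_two h2))
    (K := (MonoidHom.eqLocus f g).map (oGroup Q).subtype)
    (fun {r a} hr => ⟨⟨r, hr.mem⟩, h _ a hr, rfl⟩) x.2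
  rw [← show y = x from Subtype.ext hyx]
  exact hy

theorem mem_omg_iff (h2 : (2 : F) ≠ 0) (hQ : (polarBilin Q).Nondegenerate) (hn : 2 ≤ finrank F V) {g : oGroup Q} :
    g ∈ omg Q ↔ chi h2 hQ g = 1 := by
  rw [← MonoidHom.mem_ker, (spinor_spec hQ hn (Or.inl (card_ne_two h2)) _ (chi_refl h2 hQ)).1]

theorem chi_eq_one_of_mem (h2 : (2 : F) ≠ 0) (hQ : (polarBilin Q).Nondegenerate) {g : oGroup Q}
    (hg : g ∈ omg Q) : chi h2 hQ g = 1 := by
  rw [omg, commutator_def] at hg
  have h : ⁅(⊤ : Subgroup (oGroup Q)), ⊤⁆ ≤ (chi h2 hQ).ker := by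
    rw [Subgroup.commutator_le]
    intro a _ b _
    rw [MonoidHom.mem_ker, map_commutatorElement]
    refine commutatorElement_eq_one_iff_commute.2 ?_
    exact Commute.all (chi h2 hQ a) (chi h2 hQ b)
  exact MonoidHom.mem_ker.1 (h hg)

theorem hom_eq_one_of_odd {G : Type*} [Monoid G] (f : G →* SpinVal F) {g : G} {N : ℕ} (hN : Odd N) (hg : g ^ N = 1) :
    f g = 1 := by
  obtain ⟨t, ht⟩ := hN
  have h1 := congrArg f hg
  rwa [map_pow, map_one, ht, pow_succ, pow_mul, pow_two, OrthLow.spinVal_sq, one_pow, one_mul] at h1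

theorem mem_omg_of_odd (h2 : (2 : F) ≠ 0) (hQ : (polarBilin Q).Nondegenerate) (hn : 2 ≤ finrank F V) {g : oGroup Q}
    {N : ℕ} (hN : Odd N) (hg : g ^ N = 1) : g ∈ omg Q :=
  (mem_omg_iff h2 hQ hn).2 (hom_eq_one_of_odd _ hN hg)

theorem det_refl {r : V ≃ₗ[F] V} {a : V} (hr : IsRefl r Q a) : LinearMap.det r.toLinearMap = -1 := by
  classical
  let b := Module.finBasis F V
  rw [← LinearMap.det_toMatrix b]
  have h : LinearMap.toMatrix b b r.toLinearMap = 1 + Matrix.replicateCol Unit (fun i => -b.repr a i) *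
      Matrix.replicateRow Unit (fun j => polar Q (b j) a / Q a) := by
    rw [← Matrix.vecMulVec_eq]
    ext i j
    rw [LinearMap.toMatrix_apply, LinearEquiv.coe_coe, hr.2, map_sub, map_smul, Finsupp.sub_apply, Finsupp.smul_apply,
      Module.Basis.repr_self, Matrix.add_apply, Matrix.vecMulVec_apply, Finsupp.single_apply, Matrix.one_apply, smul_eq_mul]
    by_cases hij : i = j
    · subst hij; simp; ring
    · rw [if_neg (Ne.symm hij), if_neg hij]; ring
  rw [h, Matrix.det_one_add_replicateCol_mul_replicateRow]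
  have hsum : ∑ j, (polar Q (b j) a / Q a) * -b.repr a j = -2 := by
    have h1 : polar Q a a = ∑ j, b.repr a j * polar Q (b j) a := by
      conv_lhs => arg 2; rw [← b.sum_repr a]
      rw [← polarBilin_apply_apply, map_sum, LinearMap.sum_apply]
      exact Finset.sum_congr rfl fun j _ => by rw [map_smul, LinearMap.smul_apply, polarBilin_apply_apply, smul_eq_mul]
    rw [Finset.sum_congr rfl fun j _ => (show polar Q (b j) a / Q a * -b.repr a j
      = -(b.repr a j * polar Q (b j) a) / Q a by ring), ← Finset.sum_div, Finset.sum_neg_distrib, ← h1, b_self, neg_div,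
      mul_div_assoc, div_self hr.1, mul_one]
  rw [show dotProduct (fun j => polar Q (b j) a / Q a) (fun i => -b.repr a i) = -2 from hsum]
  ring

theorem det_eq (h2 : (2 : F) ≠ 0) (hQ : (polarBilin Q).Nondegenerate) (g : oGroup Q) :
    LinearMap.det (toEnd Q g) = sgn F (Multiplicative.toAdd (chi h2 hQ g).1) := by
  let f₁ : oGroup Q →* F := LinearMap.det.comp (toEnd Q)
  let f₂ : oGroup Q →* F :=
    { toFun := fun g => sgn F (Multiplicative.toAdd (chi h2 hQ g).1)
      map_one' := by simp [sgn]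
      map_mul' := fun a b => by rw [map_mul, Prod.fst_mul, toAdd_mul, sgn_add] }
  refine DFunLike.congr_fun (hom_ext h2 hQ (f := f₁) (g := f₂) fun r a hr => ?_) g
  show LinearMap.det r.1.toLinearMap = sgn F (Multiplicative.toAdd (chi h2 hQ r).1)
  rw [det_refl hr, chi_refl h2 hQ r a hr]
  simp [reflVal, sgn]

theorem det_of_chi (h2 : (2 : F) ≠ 0) (hQ : (polarBilin Q).Nondegenerate) {g : oGroup Q} (hg : chi h2 hQ g = 1) :
    LinearMap.det (toEnd Q g) = 1 := by
  rw [det_eq h2 hQ, hg]
  simp [sgn]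

variable {W : Type w} [AddCommGroup W] [Module F W] [FiniteDimensional F W] {R : QuadraticForm F W}

theorem chi_oProd (h2 : (2 : F) ≠ 0) (hQ : (polarBilin Q).Nondegenerate) (hR : (polarBilin R).Nondegenerate)
    (a : oGroup Q) (b : oGroup R) :
    chi h2 (nondeg_prod hQ hR) (oProd Q R (a, b)) = chi h2 hQ a * chi h2 hR b := by
  have h1 : ((chi h2 (nondeg_prod hQ hR)).comp ((oProd Q R).comp (MonoidHom.inl _ _))) = chi h2 hQ := by
    refine hom_ext h2 hQ fun r v hr => ?_
    have hr' : IsRefl (oProd Q R (r, 1)).1 (Q.prod R) (v, 0) := by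
      refine ⟨by rw [QuadraticMap.prod_apply, map_zero, add_zero]; exact hr.1, fun x => ?_⟩
      rw [oProd_apply, polar_prod, b_zero_right, add_zero, QuadraticMap.prod_apply, map_zero, add_zero, Prod.smul_mk,
        smul_zero, hr.2]
      exact Prod.ext rfl (sub_zero _).symm
    rw [MonoidHom.comp_apply, MonoidHom.comp_apply, MonoidHom.inl_apply, chi_refl h2 _ _ _ hr', chi_refl h2 hQ r v hr,
      reflVal, reflVal, QuadraticMap.prod_apply, map_zero, add_zero]
  have h3 : ((chi h2 (nondeg_prod hQ hR)).comp ((oProd Q R).comp (MonoidHom.inr _ _))) = chi h2 hR := by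
    refine hom_ext h2 hR fun r v hr => ?_
    have hr' : IsRefl (oProd Q R (1, r)).1 (Q.prod R) (0, v) := by
      refine ⟨by rw [QuadraticMap.prod_apply, map_zero, zero_add]; exact hr.1, fun x => ?_⟩
      rw [oProd_apply, polar_prod, b_zero_right, zero_add, QuadraticMap.prod_apply, map_zero, zero_add, Prod.smul_mk,
        smul_zero, hr.2]
      exact Prod.ext (sub_zero _).symm rfl
    rw [MonoidHom.comp_apply, MonoidHom.comp_apply, MonoidHom.inr_apply, chi_refl h2 _ _ _ hr', chi_refl h2 hR r v hr,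
      reflVal, reflVal, QuadraticMap.prod_apply, map_zero, zero_add]
  rw [show ((a, b) : oGroup Q × oGroup R) = (a, 1) * (1, b) by rw [Prod.mk_mul_mk, mul_one, one_mul], map_mul, map_mul,
    ← DFunLike.congr_fun h1 a, ← DFunLike.congr_fun h3 b]
  rfl

/-- The sum of two isometries is in Omega when the invariants multiply to one. -/
theorem oProd_mem (h2 : (2 : F) ≠ 0) (hQ : (polarBilin Q).Nondegenerate) (hR : (polarBilin R).Nondegenerate)
    (hn : 2 ≤ finrank F V + finrank F W) {a : oGroup Q} {b : oGroup R} :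
    oProd Q R (a, b) ∈ omg (Q.prod R) ↔ chi h2 hQ a * chi h2 hR b = 1 := by
  rw [mem_omg_iff h2 (nondeg_prod hQ hR) (by rwa [Module.finrank_prod]), chi_oProd h2 hQ hR]

end Spinor

section Nilpotent

variable {F : Type u} [Field F] {V : Type v} [AddCommGroup V] [Module F V]

/-- A long chain of a nilpotent map inside an invariant subspace. -/
theorem chain [FiniteDimensional F V] {N : End F V} {E : Submodule F V} (hE : ∀ x ∈ E, N x ∈ E) {b : ℕ}
    (hb : ∀ x ∈ E, (N ^ b) x = 0) : ∀ (j : ℕ) {x : V}, x ∈ E → (N ^ j) x ≠ 0 → j + 1 ≤ finrank F E := by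
  intro j
  induction hd : finrank F E using Nat.strong_induction_on generalizing E j with
  | _ d ih =>
    intro x hx hj
    have hle : E.map N ≤ E := Submodule.map_le_iff_le_comap.2 hE
    have hne : E.map N ≠ E := fun he => by
      have hall : ∀ i, E.map (N ^ i) = E := by
        intro i
        induction i with
        | zero => rw [pow_zero, Module.End.one_eq_id, Submodule.map_id]
        | succ i ihi => rw [pow_succ, Module.End.mul_eq_comp, Submodule.map_comp, he, ihi]
      have h0 : x ∈ E.map (N ^ b) := (hall b).symm ▸ hx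
      obtain ⟨y, hy, rfl⟩ := h0
      exact hj (by rw [hb y hy, map_zero])
    have hlt : finrank F (E.map N) < d := hd ▸ Submodule.finrank_lt_finrank_of_lt (lt_of_le_of_ne hle hne)
    cases j with
    | zero => omega
    | succ j =>
      have h := ih _ hlt (E := E.map N) (fun y hy => Submodule.mem_map_of_mem (hle hy)) (fun y hy => hb y (hle hy))
        j rfl (x := N x) (Submodule.mem_map_of_mem hx) (by rw [← Module.End.mul_apply, ← pow_succ]; exact hj)
      omega

theorem pow_finrank [FiniteDimensional F V] {N : End F V} {b : ℕ} (hb : N ^ b = 0) : N ^ finrank F V = 0 := by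
  refine LinearMap.ext fun x => by_contra fun hne => ?_
  have h := chain (N := N) (E := ⊤) (fun _ _ => trivial) (b := b) (fun y _ => by rw [hb]; rfl) (finrank F V)
    (x := x) trivial hne
  rw [finrank_top] at h
  omega

variable (p : ℕ) [Fact p.Prime] [CharP F p]

theorem sub_one_pow_char (f : End F V) (j : ℕ) : (f - 1) ^ p ^ j = f ^ p ^ j - 1 := by
  have h : ((Polynomial.X : Polynomial F) - 1) ^ p ^ j = Polynomial.X ^ p ^ j - 1 := by
    rw [sub_pow_char_pow, one_pow]
  simpa using congrArg (Polynomial.aeval f) h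

theorem geom_char (f : End F V) (j : ℕ) : ∑ i ∈ Finset.range (p ^ j), f ^ i = (f - 1) ^ (p ^ j - 1) := by
  have h : ∑ i ∈ Finset.range (p ^ j), (Polynomial.X : Polynomial F) ^ i
      = (Polynomial.X - 1) ^ (p ^ j - 1) := by
    refine mul_left_cancel₀ (show (Polynomial.X : Polynomial F) - 1 ≠ 0 by
      simpa using Polynomial.X_sub_C_ne_zero (1 : F)) ?_
    rw [mul_geom_sum, ← pow_succ', Nat.sub_add_cancel (Nat.one_le_pow _ _ (Fact.out : p.Prime).pos), sub_pow_char_pow,
      one_pow]
  have := congrArg (Polynomial.aeval f) h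
  simpa [map_sum] using this

theorem pow_eq_one_iff_nilp (f : End F V) (j : ℕ) : f ^ p ^ j = 1 ↔ (f - 1) ^ p ^ j = 0 := by
  rw [sub_one_pow_char, sub_eq_zero]

theorem pow_eq_one_of_finrank_le [FiniteDimensional F V] {f : End F V} {k j : ℕ} (hk : f ^ p ^ k = 1)
    (hj : finrank F V ≤ p ^ j) : f ^ p ^ j = 1 := by
  rw [pow_eq_one_iff_nilp] at hk ⊢
  exact pow_eq_zero_of_le hj (pow_finrank hk)

omit [Fact p.Prime] [CharP F p] in
theorem sum_range_mul {R : Type*} [Semiring R] (A : R) (a b : ℕ) :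
    ∑ i ∈ Finset.range (a * b), A ^ i = (∑ r ∈ Finset.range a, A ^ r) * ∑ t ∈ Finset.range b, (A ^ a) ^ t := by
  induction b with
  | zero => simp
  | succ b ih =>
    rw [Nat.mul_succ, Finset.sum_range_add, ih, Finset.sum_range_succ, mul_add,
      Finset.sum_mul (s := Finset.range a) (f := fun r => A ^ r) (a := (A ^ a) ^ b)]
    congr 1
    refine Finset.sum_congr rfl fun r _ => ?_
    rw [← pow_mul, ← pow_add, add_comm r]

end Nilpotent

section Split

variable {F : Type u} [Field F] {V : Type v} [AddCommGroup V] [Module F V] [FiniteDimensional F V]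
  {Q : QuadraticForm F V}

/-- A non-degenerate subspace. -/
def NonDeg (Q : QuadraticForm F V) (U : Submodule F V) : Prop :=
  ∀ a ∈ U, (∀ b ∈ U, polar Q a b = 0) → a = 0

/-- The fixed space. -/
def fix (g : oGroup Q) : Submodule F V := LinearMap.ker (toEnd Q g - 1)

theorem mem_fix {g : oGroup Q} {x : V} : x ∈ fix g ↔ g.1 x = x := by
  rw [fix, LinearMap.mem_ker, LinearMap.sub_apply, Module.End.one_apply, sub_eq_zero, toEnd_apply]

theorem fix_nondeg (hQ : (polarBilin Q).Nondegenerate) {s : oGroup Q} {m : ℕ} (hm : (m : F) ≠ 0) (hs : s ^ m = 1) :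
    NonDeg Q (fix s) := by
  intro a ha h
  refine eq_zero_of_b hQ fun x => ?_
  have hS : ∑ i ∈ Finset.range m, (s ^ i).1 x ∈ fix s := by
    rw [mem_fix, map_sum]
    have h1 := Finset.sum_range_succ' (fun i => (s ^ i).1 x) m
    rw [Finset.sum_range_succ] at h1
    simp only [hs, pow_zero] at h1
    refine (Finset.sum_congr rfl fun i _ => ?_).trans (add_right_cancel h1).symm
    rw [pow_succ']
    rfl
  have hfix : ∀ i, (s ^ i).1 a = a := by
    intro i
    induction i with
    | zero => rfl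
    | succ i ih => rw [pow_succ]; show (s ^ i).1 (s.1 a) = a; rw [mem_fix.1 ha, ih]
  have h1 := h _ hS
  rw [← polarBilin_apply_apply, map_sum, Finset.sum_congr rfl fun i _ => show polarBilin Q a ((s ^ i).1 x)
      = polar Q a x by rw [polarBilin_apply_apply]; conv_lhs => rw [← hfix i, b_map (s ^ i).2],
    Finset.sum_const, Finset.card_range, nsmul_eq_mul] at h1
  exact (mul_eq_zero.1 h1).resolve_left hm

theorem fix_map {g : oGroup Q} {n : ℕ} {x : V} (hx : x ∈ fix (g ^ n)) : g.1 x ∈ fix (g ^ n) := by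
  rw [mem_fix] at hx ⊢
  show ((g ^ n) * g).1 x = g.1 x
  rw [← pow_succ, pow_succ']
  exact congrArg g.1 hx

/-- An orthogonal decomposition. -/
noncomputable def sumEquiv {U : Submodule F V} (hU : NonDeg Q U) : (perp Q U × U) ≃ₗ[F] V :=
  LinearEquiv.ofBijective ((perp Q U).subtype.coprod U.subtype) ⟨by
    rw [← LinearMap.ker_eq_bot, LinearMap.ker_eq_bot']
    intro z hz
    simp only [LinearMap.coprod_apply, Submodule.coe_subtype] at hz
    have hu : (z.2 : V) = 0 := hU _ z.2.2 fun b hb => by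
      rw [show (z.2 : V) = (-1 : F) • (z.1 : V) by rw [neg_one_smul]; exact eq_neg_of_add_eq_zero_right hz,
        b_smul_left, b_comm, z.1.2 b hb, mul_zero]
    rw [hu, add_zero] at hz
    exact Prod.ext (Subtype.ext hz) (Subtype.ext hu), fun x => by
    obtain ⟨q, hq, hxq⟩ := exists_proj hU x
    exact ⟨(⟨x - q, hxq⟩, ⟨q, hq⟩), sub_add_cancel x q⟩⟩

theorem sumEquiv_apply {U : Submodule F V} (hU : NonDeg Q U) (z : perp Q U × U) :
    sumEquiv hU z = (z.1 : V) + (z.2 : V) := rfl

theorem sumEquiv_spec {U : Submodule F V} (hU : NonDeg Q U) (z : perp Q U × U) :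
    Q (sumEquiv hU z) = ((restr Q (perp Q U)).prod (restr Q U)) z := by
  rw [sumEquiv_apply, q_add, QuadraticMap.prod_apply, b_comm, z.1.2 _ z.2.2, add_zero]
  rfl

theorem finrank_split {U : Submodule F V} (hU : NonDeg Q U) :
    finrank F V = finrank F (perp Q U) + finrank F U := by
  rw [← (sumEquiv hU).finrank_eq, Module.finrank_prod]

/-- Isometries of the two summands as an isometry of the space. -/
noncomputable def join {U : Submodule F V} (hU : NonDeg Q U) :
    oGroup (restr Q (perp Q U)) × oGroup (restr Q U) →* oGroup Q :=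
  (oCongr (sumEquiv hU) (sumEquiv_spec hU)).toMonoidHom.comp (oProd _ _)

theorem join_apply {U : Submodule F V} (hU : NonDeg Q U)
    (ab : oGroup (restr Q (perp Q U)) × oGroup (restr Q U)) (x : perp Q U) (y : U) :
    (join hU ab).1 ((x : V) + (y : V)) = (ab.1.1 x : V) + (ab.2.1 y : V) := by
  show sumEquiv hU ((oProd _ _ ab).1 ((sumEquiv hU).symm ((x : V) + (y : V)))) = _
  rw [show (x : V) + (y : V) = sumEquiv hU (x, y) from rfl, LinearEquiv.symm_apply_apply]
  rfl

theorem join_apply_left {U : Submodule F V} (hU : NonDeg Q U)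
    (ab : oGroup (restr Q (perp Q U)) × oGroup (restr Q U)) (x : perp Q U) :
    (join hU ab).1 (x : V) = (ab.1.1 x : V) := by
  simpa using join_apply hU ab x 0

theorem join_apply_right {U : Submodule F V} (hU : NonDeg Q U)
    (ab : oGroup (restr Q (perp Q U)) × oGroup (restr Q U)) (y : U) :
    (join hU ab).1 (y : V) = (ab.2.1 y : V) := by
  simpa using join_apply hU ab 0 y

theorem join_injective {U : Submodule F V} (hU : NonDeg Q U) : Function.Injective (join hU) :=
  (oCongr _ (sumEquiv_spec hU)).injective.comp oProd_injective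

theorem orderOf_join {U : Submodule F V} (hU : NonDeg Q U) (a : oGroup (restr Q (perp Q U))) (b : oGroup (restr Q U)) :
    orderOf (join hU (a, b)) = Nat.lcm (orderOf a) (orderOf b) := by
  rw [orderOf_injective _ (join_injective hU), Prod.orderOf_mk]

theorem exists_restr {R : Submodule F V} (g : oGroup Q) (h : ∀ x ∈ R, g.1 x ∈ R) :
    ∃ a : oGroup (restr Q R), ∀ x : R, ((a.1 x : R) : V) = g.1 (x : V) := by
  have hinj : Function.Injective (g.1.toLinearMap.restrict h) := fun x y e =>
    Subtype.ext (g.1.injective (congrArg Subtype.val e))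
  exact ⟨⟨LinearEquiv.ofBijective _ ⟨hinj, LinearMap.injective_iff_surjective.1 hinj⟩, fun x => g.2 _⟩, fun x => rfl⟩

theorem exists_join {U : Submodule F V} (hU : NonDeg Q U) {g : oGroup Q} (hg : ∀ x ∈ U, g.1 x ∈ U) :
    ∃ ab, join hU ab = g := by
  obtain ⟨b, hb⟩ := exists_restr g hg
  have hperp : ∀ x ∈ perp Q U, g.1 x ∈ perp Q U := by
    intro x hx c hc
    have h1 : polar Q (g.1 ((b.1.symm ⟨c, hc⟩ : U) : V)) (g.1 x) = 0 := by
      rw [b_map g.2]; exact hx _ (b.1.symm ⟨c, hc⟩).2
    rwa [← hb, LinearEquiv.apply_symm_apply] at h1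
  obtain ⟨a, ha⟩ := exists_restr g hperp
  refine ⟨(a, b), Subtype.ext (LinearEquiv.ext fun v => ?_)⟩
  obtain ⟨⟨x, y⟩, rfl⟩ := (sumEquiv hU).surjective v
  rw [sumEquiv_apply, join_apply, ha, hb, map_add]

theorem restr_perp_nondeg (hQ : (polarBilin Q).Nondegenerate) {U : Submodule F V} (hU : NonDeg Q U) :
    (polarBilin (restr Q (perp Q U))).Nondegenerate :=
  nondeg_restr (perp_nondeg hQ hU)

theorem chi_join [Fintype F] (h2 : (2 : F) ≠ 0) (hQ : (polarBilin Q).Nondegenerate) (hn : 2 ≤ finrank F V)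
    {U : Submodule F V} (hU : NonDeg Q U) (a : oGroup (restr Q (perp Q U))) (b : oGroup (restr Q U)) :
    join hU (a, b) ∈ omg Q ↔ chi h2 (restr_perp_nondeg hQ hU) a * chi h2 (nondeg_restr hU) b = 1 := by
  rw [show join hU (a, b) = oCongr (sumEquiv hU) (sumEquiv_spec hU) (oProd _ _ (a, b)) from rfl, omg_congr_iff,
    oProd_mem h2 (restr_perp_nondeg hQ hU) (nondeg_restr hU) (by rwa [← finrank_split hU])]

/-- No fixed vectors and determinant one force even dimension. -/
theorem even_of_no_fix (h2 : (2 : F) ≠ 0) (hQ : (polarBilin Q).Nondegenerate) {g : oGroup Q}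
    (hd : LinearMap.det (toEnd Q g) = 1) (hfix : ∀ x, g.1 x = x → x = 0) : Even (finrank F V) := by
  have hinj : Function.Injective (polarBilin Q) := by
    rw [← LinearMap.ker_eq_bot, LinearMap.ker_eq_bot']
    exact fun x hx => eq_zero_of_b hQ fun y => LinearMap.congr_fun hx y
  let ψ : V ≃ₗ[F] Dual F V := LinearEquiv.ofBijective (polarBilin Q)
    ⟨hinj, (LinearMap.injective_iff_surjective_of_finrank_eq_finrank Subspace.dual_finrank_eq.symm).1 hinj⟩
  have hψ : ∀ x y, ψ x y = polar Q x y := fun x y => rfl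
  have hconj : ψ.conj (toEnd Q g - 1) = (toEnd Q g⁻¹ - 1).dualMap := by
    refine LinearMap.ext fun f => ?_
    obtain ⟨x, rfl⟩ := ψ.surjective f
    rw [LinearEquiv.conj_apply_apply, LinearEquiv.symm_apply_apply]
    refine LinearMap.ext fun y => ?_
    rw [LinearMap.dualMap_apply, hψ, hψ, LinearMap.sub_apply, LinearMap.sub_apply, Module.End.one_apply,
      Module.End.one_apply, toEnd_apply, toEnd_apply, b_sub_left, b_sub_right]
    congr 1
    conv_lhs => rw [← show g.1 ((g⁻¹).1 y) = y from g.1.apply_symm_apply y, b_map g.2]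
  have hdet : LinearMap.det (toEnd Q g - 1) = LinearMap.det (toEnd Q g⁻¹ - 1) := by
    rw [← LinearMap.det_dualMap (toEnd Q g⁻¹ - 1), ← hconj, LinearEquiv.conj_apply, LinearMap.comp_assoc, LinearMap.det_conj]
  have hinv : LinearMap.det (toEnd Q g⁻¹) = 1 := by
    have h1 : LinearMap.det (toEnd Q g⁻¹) * LinearMap.det (toEnd Q g) = 1 := by
      rw [← map_mul, ← map_mul, inv_mul_cancel, map_one, map_one]
    rwa [hd, mul_one] at h1
  have hne : LinearMap.det (toEnd Q g - 1) ≠ 0 := by
    intro h0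
    have hlt := LinearMap.bot_lt_ker_of_det_eq_zero h0
    refine (ne_of_gt hlt) ?_
    rw [Submodule.eq_bot_iff]
    intro x hx
    exact hfix x (sub_eq_zero.1 hx)
  have e : toEnd Q g⁻¹ - 1 = toEnd Q g⁻¹ * ((-1 : F) • (toEnd Q g - 1)) := by
    rw [neg_one_smul, neg_sub, mul_sub, mul_one, ← map_mul, inv_mul_cancel, map_one]
  rw [e, map_mul, hinv, one_mul, LinearMap.det_smul] at hdet
  by_contra hodd
  rw [Nat.not_even_iff_odd] at hodd
  rw [hodd.neg_one_pow] at hdet
  exact hne ((mul_eq_zero.1 (show (2 : F) * LinearMap.det (toEnd Q g - 1) = 0 by linear_combination hdet)).resolve_left h2)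

end Split

section Hits

variable {F : Type u} [Field F] {V : Type v} [AddCommGroup V] [Module F V] {Q : QuadraticForm F V}

/-- Some extension of an element of Omega by a vector has order divisible by `n`. -/
def Hit (Q : QuadraticForm F V) (n : ℕ) : Prop :=
  ∃ g ∈ omg Q, ∃ v : V, ∀ i : ℕ, g ^ i = 1 → ∑ j ∈ Finset.range i, (g ^ j).1 v = 0 → n ∣ i

theorem Hit.dvd {n m : ℕ} (h : Hit Q n) (hm : m ∣ n) : Hit Q m := by
  obtain ⟨g, hg, v, hv⟩ := h
  exact ⟨g, hg, v, fun i h1 h2 => hm.trans (hv i h1 h2)⟩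

theorem Hit.of_orderOf {g : oGroup Q} (hg : g ∈ omg Q) : Hit Q (orderOf g) :=
  ⟨g, hg, 0, fun i h1 _ => orderOf_dvd_of_pow_eq_one h1⟩

theorem Hit.congr {W : Type w} [AddCommGroup W] [Module F W] {R : QuadraticForm F W} (e : V ≃ₗ[F] W)
    (h : ∀ x, R (e x) = Q x) {n : ℕ} (hh : Hit Q n) : Hit R n := by
  obtain ⟨g, hg, v, hv⟩ := hh
  refine ⟨oCongr e h g, (omg_congr_iff _ g).2 hg, e v, fun i h1 h3 => hv i ?_ ?_⟩
  · exact (oCongr e h).injective (by rw [map_pow, h1, map_one])
  · refine e.map_eq_zero_iff.1 ?_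
    rw [map_sum]
    refine (Finset.sum_congr rfl fun j _ => ?_).trans h3
    rw [← map_pow]
    show _ = e ((g ^ j).1 (e.symm (e v)))
    rw [LinearEquiv.symm_apply_apply]

theorem sum_pow_mul (g : oGroup Q) {a : ℕ} (hg : g ^ a = 1) (t : ℕ) (x : V) :
    ∑ j ∈ Finset.range (a * t), (g ^ j).1 x = (t : F) • ∑ j ∈ Finset.range a, (g ^ j).1 x := by
  induction t with
  | zero => simp
  | succ t ih =>
    rw [Nat.mul_succ, Finset.sum_range_add, ih, Nat.cast_succ, add_smul, one_smul]
    congr 1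
    refine Finset.sum_congr rfl fun j _ => ?_
    rw [pow_add, pow_mul, hg, one_pow, one_mul]

theorem Hit.of_sum (p : ℕ) [CharP F p] {g : oGroup Q} (hg : g ∈ omg Q) {x : V}
    (hx : ∑ j ∈ Finset.range (orderOf g), (g ^ j).1 x ≠ 0) : Hit Q (p * orderOf g) := by
  refine ⟨g, hg, x, fun i h1 h3 => ?_⟩
  obtain ⟨t, rfl⟩ := orderOf_dvd_of_pow_eq_one h1
  rw [sum_pow_mul g (pow_orderOf_eq_one g), smul_eq_zero] at h3
  rw [mul_comm p]
  exact Nat.mul_dvd_mul_left _ ((CharP.cast_eq_zero_iff F p t).1 (h3.resolve_right hx))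

end Hits

section Regular

variable {F : Type u} [Field F] [Fintype F] {V : Type v} [AddCommGroup V] [Module F V] [FiniteDimensional F V]
  {Q : QuadraticForm F V}

theorem exists_regular (h2 : (2 : F) ≠ 0) (hQ : (polarBilin Q).Nondegenerate) {d : ℕ} (hd : Odd d)
    (hV : finrank F V = d) : ∃ u : oGroup Q, (toEnd Q u - 1) ^ d = 0 ∧ (toEnd Q u - 1) ^ (d - 1) ≠ 0 := by
  classical
  let dd : Fin 1 → ℕ := fun _ => d
  obtain ⟨G, hGt, hGd, hGi, -, -⟩ := LBJordanForms.exists_form_of (F := F) (d := dd) (ε := 1) (by ring)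
    (fun _ => hd.pos) id (fun _ => rfl) (fun _ => rfl) (fun _ => LBJordanForms.symSingle d)
    (fun k _ => ⟨LBJordanForms.symSingle_rel _, LBJordanForms.symSingle_tri h2 hd, fun a b => by
      rw [LBJordanForms.symSingle, LBJordanForms.symSingle]; ring⟩)
  rw [one_smul] at hGt
  obtain ⟨J, hJ⟩ : ∃ J : Module.End F (((k : Fin 1) × Fin (dd k)) → F), J = Matrix.toLin' (Cfsg.jordanTypeMatrix dd F) :=
    ⟨_, rfl⟩
  obtain ⟨Q₁, hQ₁⟩ : ∃ Q₁ : QuadraticForm F (((k : Fin 1) × Fin (dd k)) → F),
      Q₁ = LinearMap.BilinMap.toQuadraticMap (Matrix.toLinearMap₂' F G) := ⟨_, rfl⟩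
  have hQ₁v : ∀ x, Q₁ x = dotProduct x (G.mulVec x) := fun x => by
    rw [hQ₁, LinearMap.BilinMap.toQuadraticMap_apply, Matrix.toLinearMap₂'_apply']
  have hJinv : ∀ x, Q₁ (J x) = Q₁ x := by
    intro x
    rw [hQ₁v, hQ₁v, hJ, Matrix.toLin'_apply]
    conv_rhs => rw [← hGi]
    rw [← Matrix.mulVec_mulVec, ← Matrix.mulVec_mulVec, Matrix.dotProduct_mulVec x (Cfsg.jordanTypeMatrix dd F).transpose,
      Matrix.vecMul_transpose]
  have h₁ : (polarBilin Q₁).Nondegenerate := by
    refine nondeg_of fun x hx => Matrix.eq_zero_of_vecMul_eq_zero hGd (funext fun j => ?_)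
    have h := hx (Pi.single j 1)
    rw [hQ₁, LinearMap.BilinMap.polar_toQuadraticMap, Matrix.toLinearMap₂'_apply', Matrix.toLinearMap₂'_apply',
      Matrix.dotProduct_mulVec (Pi.single j 1), dotProduct_comm (Matrix.vecMul (Pi.single j 1) G),
      ← Matrix.mulVec_transpose, hGt, Matrix.dotProduct_mulVec, dotProduct_single, mul_one, ← two_mul] at h
    exact (mul_eq_zero.1 h).resolve_left h2
  have hNp : ∀ (i : ℕ) x a, ((J - 1) ^ i) x a = if h : (a.2 : ℕ) < i then 0 else x ⟨a.1, ⟨a.2 - i, by omega⟩⟩ := fun i x a => by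
    rw [hJ]; exact LBType.jn_pow_apply i x a
  have hnil : (J - 1) ^ d = 0 := by rw [hJ]; exact LBType.jn_nilp (d := dd) fun _ => le_rfl
  have hunit : IsUnit J := by
    have h := IsNilpotent.isUnit_add_one (r := J - 1) ⟨d, hnil⟩
    rwa [sub_add_cancel] at h
  obtain ⟨e₁⟩ : Nonempty ((((k : Fin 1) × Fin (dd k)) → F) ≃ₗ[F] (Fin d → F)) :=
    FiniteDimensional.nonempty_linearEquiv_of_finrank_eq (by simp [dd])
  obtain ⟨e₂⟩ : Nonempty (V ≃ₗ[F] (Fin d → F)) :=
    FiniteDimensional.nonempty_linearEquiv_of_finrank_eq (by rw [hV, Module.finrank_fin_fun])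
  have s₁ : ∀ x, (Q₁.comp e₁.symm.toLinearMap) (e₁ x) = Q₁ x := fun x => congrArg Q₁ (e₁.symm_apply_apply x)
  have s₂ : ∀ x, (Q.comp e₂.symm.toLinearMap) (e₂ x) = Q x := fun x => congrArg Q (e₂.symm_apply_apply x)
  obtain ⟨g, c, hc, hg⟩ := exists_similarity h2 hd _ _ (nondeg_congr e₁ s₁ h₁) (nondeg_congr e₂ s₂ hQ)
  obtain ⟨E, hE⟩ : ∃ E, E = e₁.trans (g.trans e₂.symm) := ⟨_, rfl⟩
  have hEQ : ∀ x, Q (E x) = c * Q₁ x := fun x => by
    rw [← s₁ x, ← hg, hE]; rfl
  let Je := LinearEquiv.ofBijective J ((Module.End.isUnit_iff J).1 hunit)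
  let u : oGroup Q := ⟨E.symm.trans (Je.trans E), fun y => by
    show Q (E (J (E.symm y))) = Q y
    rw [hEQ, hJinv, ← hEQ, E.apply_symm_apply]⟩
  have hu : ∀ (i : ℕ) x, ((toEnd Q u - 1) ^ i) (E x) = E (((J - 1) ^ i) x) := by
    intro i
    induction i with
    | zero => intro x; rfl
    | succ i ih =>
      intro x
      rw [pow_succ, pow_succ, Module.End.mul_apply, Module.End.mul_apply, ← ih]
      congr 1
      show E (J (E.symm (E x))) - E x = E ((J - 1) x)
      rw [E.symm_apply_apply, ← map_sub]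
      rfl
  refine ⟨u, LinearMap.ext fun y => ?_, fun h => ?_⟩
  · obtain ⟨x, rfl⟩ := E.surjective y
    rw [hu, hnil, LinearMap.zero_apply, map_zero, LinearMap.zero_apply]
  · have h1 := hu (d - 1) fun _ => 1
    rw [h, LinearMap.zero_apply] at h1
    have hd0 := hd.pos
    have h3 := congrFun (E.map_eq_zero_iff.1 h1.symm) ⟨0, ⟨d - 1, show d - 1 < d by omega⟩⟩
    rw [hNp, dif_neg (by simp)] at h3
    simp at h3

/-- A regular unipotent element and its order. -/
theorem exists_regular_order (h2 : (2 : F) ≠ 0) (p : ℕ) [Fact p.Prime] [CharP F p]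
    (hQ : (polarBilin Q).Nondegenerate) {d : ℕ} (hd : Odd d) (hV : finrank F V = d) :
    ∃ u : oGroup Q, orderOf u = p ^ Nat.clog p d ∧ chi h2 hQ u = 1 ∧ (toEnd Q u - 1) ^ (d - 1) ≠ 0 := by
  obtain ⟨u, hu, hu'⟩ := exists_regular h2 hQ hd hV
  have hp : p.Prime := Fact.out
  have hiff : ∀ j, u ^ p ^ j = 1 ↔ Nat.clog p d ≤ j := by
    intro j
    rw [← (toEnd_injective (QA := Q)).eq_iff, map_pow, map_one, pow_eq_one_iff_nilp p,
      Nat.clog_le_iff_le_pow hp.one_lt]
    refine ⟨fun h => ?_, fun h => pow_eq_zero_of_le h hu⟩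
    by_contra hlt
    exact hu' (pow_eq_zero_of_le (by omega) h)
  obtain ⟨i, hi, hio⟩ := (Nat.dvd_prime_pow hp).1 (orderOf_dvd_of_pow_eq_one ((hiff _).2 le_rfl))
  have hord : orderOf u = p ^ Nat.clog p d := by
    rw [hio, le_antisymm hi ((hiff i).1 (by rw [← hio, pow_orderOf_eq_one]))]
  have hp2 : Odd p := hp.odd_of_ne_two fun e => h2 (by
    have h : ((p : ℕ) : F) = 0 := CharP.cast_eq_zero F p
    rw [e] at h
    exact_mod_cast h)
  exact ⟨u, hord, hom_eq_one_of_odd _ (hp2.pow (n := Nat.clog p d)) ((hiff _).2 le_rfl), hu'⟩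

end Regular

end Cfsg.Agent.OddOrth
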