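/-
Eigenvalue multisets of orthogonal maps in odd characteristic: orbits under a power map and inversion.
-/
import Mathlib

set_option autoImplicit false
set_option linter.all false

namespace Cfsg.Agent.OddOrth

open Finset

/-- The order of a cyclic torus: `q^e + 1` or `q^e - 1`. -/
def torVal (q : ℕ) : ℕ × Bool → ℕ
  | (e, true) => q ^ e + 1
  | (e, false) => q ^ e - 1

theorem torVal_even {q : ℕ} (hq : Odd q) (e : ℕ) (b : Bool) : Even (torVal q (e, b)) := by
  have h := Nat.odd_iff.1 (hq.pow (n := e))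
  rw [Nat.even_iff]
  cases b <;> simp only [torVal] <;> omega

theorem torVal_one_dvd (q : ℕ) (hq : 1 ≤ q) (b : Bool) : torVal q (1, b) ∣ torVal q (2, false) := by
  obtain ⟨t, rfl⟩ : ∃ t, q = t + 1 := ⟨q - 1, by omega⟩
  cases b
  · exact ⟨t + 2, by simp only [torVal, pow_one, Nat.add_sub_cancel]; apply Nat.sub_eq_of_eq_add; ring⟩
  · exact ⟨t, by simp only [torVal, pow_one]; apply Nat.sub_eq_of_eq_add; ring⟩

theorem torVal_three_dvd (q : ℕ) (hq : 1 ≤ q) (b : Bool) : torVal q (1, b) ∣ torVal q (3, b) := by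
  obtain ⟨t, rfl⟩ : ∃ t, q = t + 1 := ⟨q - 1, by omega⟩
  cases b
  · exact ⟨(t + 1) ^ 2 + (t + 1) + 1, by simp only [torVal, pow_one, Nat.add_sub_cancel]; apply Nat.sub_eq_of_eq_add; ring⟩
  · exact ⟨t ^ 2 + t + 1, by simp only [torVal, pow_one]; ring⟩

variable {K : Type*} [Field K] [DecidableEq K]

/-- A multiset stable under `x ↦ x^q` and inversion, avoiding zero and one. -/
structure Stable (q : ℕ) (R : Multiset K) : Prop where
  pow : ∀ x, R.count (x ^ q) = R.count x
  inv : ∀ x, R.count x⁻¹ = R.count x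
  ne : ∀ x ∈ R, x ≠ 0 ∧ x ≠ 1

theorem neg_one_pow_torVal {q : ℕ} (hq : Odd q) (e : ℕ) (b : Bool) : (-1 : K) ^ torVal q (e, b) = 1 :=
  (torVal_even hq e b).neg_one_pow

/-- Removing one orbit. -/
theorem Stable.step {q : ℕ} (hq : Odd q) {R : Multiset K} (hR : Stable q R)
    (hinj : Function.Injective fun x : K => x ^ q) {x : K} (hx : x ∈ R) :
    ∃ (e : ℕ) (b : Bool) (o : ℕ) (R' : Multiset K), 1 ≤ e ∧ x ^ torVal q (e, b) = 1 ∧
      (x = -1 → o = 1) ∧ (x ≠ -1 → o = 2 * e) ∧ Stable q R' ∧ R'.card + o * R.count x = R.card ∧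
      (∀ y ∈ R', y ∈ R ∧ y ≠ x) ∧ ∀ y ∈ R, orderOf y = orderOf x ∨ y ∈ R' := by
  classical
  obtain ⟨hx0, hx1⟩ := hR.ne x hx
  suffices hO : ∃ (e : ℕ) (b : Bool) (O : Finset K), 1 ≤ e ∧ x ^ torVal q (e, b) = 1 ∧ (x = -1 → O.card = 1) ∧
      (x ≠ -1 → O.card = 2 * e) ∧ x ∈ O ∧ (∀ y, y ∈ O → y ^ q ∈ O) ∧ (∀ y, y ∈ O → y⁻¹ ∈ O) ∧
      (∀ y ∈ O, R.count y = R.count x) ∧ ∀ y ∈ O, orderOf y = orderOf x by
    obtain ⟨e, b, O, he, hp, h1, h2, hxO, hOq, hOi, hOc, hOo⟩ := hO
    have hOq' : ∀ y, y ^ q ∈ O → y ∈ O := by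
      intro y hy
      have heq : O.image (fun z => z ^ q) = O := Finset.eq_of_subset_of_card_le
        (fun z hz => by obtain ⟨w, hw, rfl⟩ := Finset.mem_image.1 hz; exact hOq w hw)
        (by rw [Finset.card_image_of_injective _ hinj])
      rw [← heq] at hy
      obtain ⟨w, hw, hwy⟩ := Finset.mem_image.1 hy
      rwa [← hinj hwy]
    have hOi' : ∀ y, y⁻¹ ∈ O ↔ y ∈ O := fun y => ⟨fun h => by simpa using hOi _ h, hOi y⟩
    refine ⟨e, b, O.card, R.filter (· ∉ O), he, hp, h1, h2, ⟨?_, ?_, fun y hy => hR.ne y (Multiset.mem_filter.1 hy).1⟩,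
      ?_, fun y hy => ⟨(Multiset.mem_filter.1 hy).1, fun e => (Multiset.mem_filter.1 hy).2 (e ▸ hxO)⟩, ?_⟩
    · intro y
      simp only [Multiset.count_filter]
      by_cases hy : y ∈ O
      · rw [if_neg (not_not.2 (hOq y hy)), if_neg (not_not.2 hy)]
      · rw [if_pos (fun h => hy (hOq' y h)), if_pos hy, hR.pow]
    · intro y
      simp only [Multiset.count_filter, hOi', hR.inv]
    · have h3 : R.card = (R.filter (· ∉ O)).card + (R.filter (· ∈ O)).card := by
        rw [← Multiset.card_add, add_comm (R.filter _), Multiset.filter_add_not]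
      have h4 : O.card * R.count x = (R.filter (· ∈ O)).card := by
        calc O.card * R.count x = ∑ y ∈ O, R.count y := by
              rw [Finset.sum_congr rfl hOc, Finset.sum_const, smul_eq_mul]
          _ = ∑ y ∈ O, (R.filter (· ∈ O)).count y :=
              Finset.sum_congr rfl fun y hy => by rw [Multiset.count_filter_of_pos hy]
          _ = _ := Multiset.sum_count_eq_card fun y hy => (Multiset.mem_filter.1 hy).2
      omega
    · intro y hy
      by_cases hyO : y ∈ O
      · exact Or.inl (hOo y hyO)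
      · exact Or.inr (Multiset.mem_filter.2 ⟨hy, hyO⟩)
  by_cases hm : x = -1
  · refine ⟨1, false, {x}, le_rfl, by rw [hm]; exact neg_one_pow_torVal hq 1 false, fun _ => Finset.card_singleton x,
      fun h => absurd hm h, Finset.mem_singleton_self x, ?_, ?_, ?_, ?_⟩
    all_goals intro y hy; rw [Finset.mem_singleton] at hy; subst hy
    · rw [Finset.mem_singleton, hm, hq.neg_one_pow]
    · rw [Finset.mem_singleton, hm, inv_neg, inv_one]
    · rfl
    · rfl
  have hqi : ∀ i : ℕ, Function.Injective fun y : K => y ^ q ^ i := by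
    intro i
    induction i with
    | zero => intro a b h; simpa using h
    | succ i ih =>
      intro a b h
      refine ih (hinj ?_)
      show (a ^ q ^ i) ^ q = (b ^ q ^ i) ^ q
      rw [← pow_mul, ← pow_mul, ← pow_succ]; exact h
  have hcount : ∀ (i : ℕ) (y : K), R.count (y ^ q ^ i) = R.count y := by
    intro i
    induction i with
    | zero => intro y; rw [pow_zero, pow_one]
    | succ i ih => intro y; rw [pow_succ, pow_mul, hR.pow, ih]
  have hord : ∀ i : ℕ, orderOf (x ^ q ^ i) = orderOf x := fun i =>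
    orderOf_injective (powMonoidHom (q ^ i)) (hqi i) x
  -- the period
  have hper : ∃ f, 1 ≤ f ∧ x ^ q ^ f = x := by
    obtain ⟨i, j, hne, he⟩ : ∃ i j, i ≠ j ∧ x ^ q ^ i = x ^ q ^ j := by
      by_contra h
      push Not at h
      have hinj' : Function.Injective fun i : ℕ => (⟨x ^ q ^ i, Multiset.mem_toFinset.2
          (Multiset.count_pos.1 (by rw [hcount]; exact Multiset.count_pos.2 hx))⟩ : R.toFinset) :=
        fun i j hij => by
          by_contra hne
          exact h i j hne (congrArg Subtype.val hij)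
      exact not_finite_iff_infinite.2 (Infinite.of_injective _ hinj') inferInstance
    wlog hij : i < j generalizing i j
    · exact this j i hne.symm he.symm (by omega)
    refine ⟨j - i, by omega, hqi i ?_⟩
    show (x ^ q ^ (j - i)) ^ q ^ i = x ^ q ^ i
    rw [← pow_mul, ← pow_add, Nat.sub_add_cancel hij.le, he]
  let f := Nat.find hper
  obtain ⟨hf1, hfx⟩ : 1 ≤ f ∧ x ^ q ^ f = x := Nat.find_spec hper
  have hfmin : ∀ i j, i < j → j < f → x ^ q ^ i ≠ x ^ q ^ j := fun i j hij hj he => by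
    refine Nat.find_min hper (show j - i < f by omega) ⟨by omega, hqi i ?_⟩
    show (x ^ q ^ (j - i)) ^ q ^ i = x ^ q ^ i
    rw [← pow_mul, ← pow_add, Nat.sub_add_cancel hij.le, he]
  have hinjOn : Set.InjOn (fun i : ℕ => x ^ q ^ i) (Finset.range f : Finset ℕ) := by
    intro i hi j hj he
    simp only [Finset.coe_range, Set.mem_Iio] at hi hj
    rcases lt_trichotomy i j with h | h | h
    · exact absurd he (hfmin i j h hj)
    · exact h
    · exact absurd he.symm (hfmin j i h hi)
  have hmod : ∀ a, x ^ q ^ (a % f) = x ^ q ^ a := by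
    intro a
    induction a using Nat.strong_induction_on with
    | _ a ih =>
      by_cases ha : a < f
      · rw [Nat.mod_eq_of_lt ha]
      · rw [Nat.mod_eq_sub_mod (by omega), ih (a - f) (by omega)]
        conv_rhs => rw [show a = f + (a - f) by omega, pow_add, pow_mul, hfx]
  let A : Finset K := (Finset.range f).image fun i => x ^ q ^ i
  have hA : A.card = f := by rw [Finset.card_image_of_injOn hinjOn, Finset.card_range]
  have hmemA : ∀ a, x ^ q ^ a ∈ A := fun a =>
    Finset.mem_image.2 ⟨a % f, Finset.mem_range.2 (Nat.mod_lt _ hf1), hmod a⟩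
  let O : Finset K := A ∪ A.image (·⁻¹)
  have hmemO : ∀ y ∈ O, ∃ i, y = x ^ q ^ i ∨ y = (x ^ q ^ i)⁻¹ := fun y hy => by
    rcases Finset.mem_union.1 hy with h | h
    · obtain ⟨i, -, rfl⟩ := Finset.mem_image.1 h; exact ⟨i, Or.inl rfl⟩
    · obtain ⟨z, hz, rfl⟩ := Finset.mem_image.1 h
      obtain ⟨i, -, rfl⟩ := Finset.mem_image.1 hz
      exact ⟨i, Or.inr rfl⟩
  obtain ⟨e, b, he1, hp, hcard⟩ : ∃ (e : ℕ) (b : Bool), 1 ≤ e ∧ x ^ torVal q (e, b) = 1 ∧ O.card = 2 * e := by
    by_cases hj : ∃ j, j < f ∧ x ^ q ^ j = x⁻¹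
    · obtain ⟨j, hjf, hje⟩ := hj
      have hj0 : j ≠ 0 := by
        rintro rfl
        rw [pow_zero, pow_one] at hje
        have hxx : x * x = 1 := by
          have := congrArg (· * x) hje
          simpa [inv_mul_cancel₀ hx0] using this
        rcases mul_self_eq_one_iff.1 hxx with h | h
        exacts [hx1 h, hm h]
      have h2j : x ^ q ^ (2 * j) = x := by
        rw [two_mul, pow_add, pow_mul, hje, inv_pow, hje, inv_inv]
      refine ⟨j, true, by omega, ?_, ?_⟩
      · show x ^ (q ^ j + 1) = 1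
        rw [pow_succ, hje, inv_mul_cancel₀ hx0]
      have h : 2 * j = f := by
        rcases lt_trichotomy (2 * j) f with h | h | h
        · exact absurd (by rw [h2j, pow_zero, pow_one]) (hfmin 0 (2 * j) (by omega) h)
        · exact h
        · refine absurd ?_ (hfmin 0 (2 * j - f) (by omega) (by omega))
          rw [pow_zero, pow_one]
          refine (hqi f ?_)
          show x ^ q ^ f = (x ^ q ^ (2 * j - f)) ^ q ^ f
          rw [hfx, ← pow_mul, ← pow_add, Nat.sub_add_cancel h.le, h2j]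
      have hsub : A.image (·⁻¹) ⊆ A := by
        intro y hy
        obtain ⟨z, hz, rfl⟩ := Finset.mem_image.1 hy
        obtain ⟨i, -, rfl⟩ := Finset.mem_image.1 hz
        show (x ^ q ^ i)⁻¹ ∈ A
        rw [← inv_pow, ← hje, ← pow_mul, ← pow_add]
        exact hmemA _
      show (A ∪ A.image (·⁻¹)).card = 2 * j
      rw [Finset.union_eq_left.2 hsub, hA, h]
    · refine ⟨f, false, hf1, ?_, ?_⟩
      · show x ^ (q ^ f - 1) = 1
        have hqf : q ^ f ≠ 0 := fun h => hx1 (by rw [← hfx, h, pow_zero])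
        refine mul_left_cancel₀ hx0 ?_
        rw [← pow_succ', Nat.sub_add_cancel (Nat.one_le_iff_ne_zero.2 hqf), hfx, mul_one]
      · have hdis : Disjoint A (A.image (·⁻¹)) := by
          rw [Finset.disjoint_left]
          intro y hy hy'
          obtain ⟨z, hz, rfl⟩ := Finset.mem_image.1 hy'
          obtain ⟨i, hi, hie⟩ := Finset.mem_image.1 hy
          obtain ⟨l, hl, rfl⟩ := Finset.mem_image.1 hz
          rw [Finset.mem_range] at hi hl
          refine hj ⟨(i + (f - l)) % f, Nat.mod_lt _ hf1, ?_⟩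
          rw [hmod, pow_add, pow_mul, hie, inv_pow, ← pow_mul, ← pow_add, Nat.add_sub_cancel' hl.le, hfx]
        show (A ∪ A.image (·⁻¹)).card = 2 * f
        rw [Finset.card_union_of_disjoint hdis, hA, Finset.card_image_of_injective _ inv_injective, hA, two_mul]
  refine ⟨e, b, O, he1, hp, fun h => absurd h hm, fun _ => hcard, Finset.mem_union_left _ (by simpa using hmemA 0),
    ?_, ?_, ?_, ?_⟩
  · intro y hy
    obtain ⟨i, rfl | rfl⟩ := hmemO y hy
    · rw [← pow_mul, ← pow_succ]; exact Finset.mem_union_left _ (hmemA _)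
    · rw [inv_pow, ← pow_mul, ← pow_succ]
      exact Finset.mem_union_right _ (Finset.mem_image.2 ⟨_, hmemA _, rfl⟩)
  · intro y hy
    rcases Finset.mem_union.1 hy with h | h
    · exact Finset.mem_union_right _ (Finset.mem_image.2 ⟨y, h, rfl⟩)
    · obtain ⟨z, hz, rfl⟩ := Finset.mem_image.1 h
      rw [inv_inv]; exact Finset.mem_union_left _ hz
  · intro y hy
    obtain ⟨i, rfl | rfl⟩ := hmemO y hy
    · exact hcount i x
    · rw [hR.inv, hcount]
  · intro y hy
    obtain ⟨i, rfl | rfl⟩ := hmemO y hy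
    · exact hord i
    · rw [orderOf_eq_orderOf_iff]
      intro n
      rw [inv_pow, inv_eq_one, ← orderOf_dvd_iff_pow_eq_one, hord, orderOf_dvd_iff_pow_eq_one]

variable {q : ℕ} (hq : Odd q) (hinj : Function.Injective fun x : K => x ^ q)
include hq hinj

theorem Stable.le_one {R : Multiset K} (hR : Stable q R) (h : R.card ≤ 1) {y : K} (hy : y ∈ R) : y = -1 := by
  by_contra hne
  obtain ⟨e, b, o, R', he, -, -, ho, -, hc, -, -⟩ := hR.step hq hinj hy
  have h1 : 1 ≤ R.count y := Multiset.count_pos.2 hy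
  rw [ho hne] at hc
  have : 2 * e ≤ 2 * e * R.count y := Nat.le_mul_of_pos_right _ h1
  omega

theorem Stable.le_three {R : Multiset K} (hR : Stable q R) (h : R.card ≤ 3) :
    ∃ b, ∀ y ∈ R, y ^ torVal q (1, b) = 1 := by
  by_cases hall : ∀ y ∈ R, y = -1
  · exact ⟨false, fun y hy => by rw [hall y hy]; exact neg_one_pow_torVal hq 1 false⟩
  push Not at hall
  obtain ⟨x, hx, hne⟩ := hall
  obtain ⟨e, b, o, R', he, hp, -, ho, hR', hc, -, hy'⟩ := hR.step hq hinj hx
  have h1 : 1 ≤ R.count x := Multiset.count_pos.2 hx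
  rw [ho hne] at hc
  have : 2 * e ≤ 2 * e * R.count x := Nat.le_mul_of_pos_right _ h1
  obtain rfl : e = 1 := by omega
  refine ⟨b, fun y hy => ?_⟩
  rcases hy' y hy with h3 | h3
  · exact orderOf_dvd_iff_pow_eq_one.1 (h3.symm ▸ orderOf_dvd_of_pow_eq_one hp)
  · rw [hR'.le_one hq hinj (by omega) h3]; exact neg_one_pow_torVal hq 1 b

theorem Stable.le_five {R : Multiset K} (hR : Stable q R) (h : R.card ≤ 5) :
    ∃ b, ∀ y ∈ R, y ^ torVal q (2, b) = 1 := by
  by_cases hall : ∀ y ∈ R, y ^ torVal q (2, false) = 1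
  · exact ⟨false, hall⟩
  push Not at hall
  obtain ⟨x, hx, hne⟩ := hall
  have hx1 : x ≠ -1 := fun e => hne (by rw [e]; exact neg_one_pow_torVal hq 2 false)
  obtain ⟨e, b, o, R', he, hp, -, ho, hR', hc, -, hy'⟩ := hR.step hq hinj hx
  have h1 : 1 ≤ R.count x := Multiset.count_pos.2 hx
  rw [ho hx1] at hc
  have : 2 * e ≤ 2 * e * R.count x := Nat.le_mul_of_pos_right _ h1
  have he2 : e ≠ 1 := fun e1 => hne (by
    obtain ⟨c, hc'⟩ := torVal_one_dvd q hq.pos b
    rw [e1] at hp
    rw [hc', pow_mul, hp, one_pow])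
  obtain rfl : e = 2 := by omega
  refine ⟨b, fun y hy => ?_⟩
  rcases hy' y hy with h3 | h3
  · exact orderOf_dvd_iff_pow_eq_one.1 (h3.symm ▸ orderOf_dvd_of_pow_eq_one hp)
  · rw [hR'.le_one hq hinj (by omega) h3]; exact neg_one_pow_torVal hq 2 b

end Cfsg.Agent.OddOrth
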