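/-
Counting values of quadratic forms in odd characteristic, and tori acting semiregularly.
-/
import Cfsg.Agent.Lib.Isospectral.OddOrth.Basic
import Mathlib.FieldTheory.Finite.Extension
import Mathlib.GroupTheory.Perm.Cycle.Type
import Mathlib.RingTheory.Norm.Basic

set_option autoImplicit false
set_option linter.all false

universe u v w

namespace Cfsg.Agent.OddOrth

open QuadraticMap Module Cfsg.Agent.Orth

section Count

variable {F : Type u} [Field F] [Fintype F] {V : Type v} [AddCommGroup V] [Module F V] {W : Type w} [AddCommGroup W]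
  [Module F W] {Q : QuadraticForm F V} {R : QuadraticForm F W}

/-- The number of vectors with a given value. -/
noncomputable def cnt (Q : QuadraticForm F V) (c : F) : ℕ := Nat.card {x : V // Q x = c}

theorem cnt_congr (e : V ≃ₗ[F] W) (h : ∀ x, R (e x) = Q x) (c : F) : cnt R c = cnt Q c :=
  (Nat.card_congr (e.toEquiv.subtypeEquiv fun x => by rw [LinearEquiv.coe_toEquiv, h])).symm

open scoped Classical in
/-- The correction term. -/
noncomputable def eps (c : F) : ℤ := if c = 0 then (Fintype.card F : ℤ) - 1 else -1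

/-- The counts of a space of dimension `2d` and sign `σ`. -/
def Sgn (Q : QuadraticForm F V) (d : ℕ) (σ : ℤ) : Prop :=
  ∀ c, (Fintype.card F : ℤ) * cnt Q c = (Fintype.card F : ℤ) ^ (2 * d) + σ * eps c * (Fintype.card F : ℤ) ^ d

theorem Sgn.congr {d : ℕ} {σ : ℤ} (h : Sgn Q d σ) (e : V ≃ₗ[F] W) (he : ∀ x, R (e x) = Q x) : Sgn R d σ := fun c => by
  rw [cnt_congr e he]
  exact h c

theorem sum_cnt [FiniteDimensional F V] (Q : QuadraticForm F V) :
    ∑ c, cnt Q c = Fintype.card F ^ finrank F V := by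
  classical
  haveI : Finite V := Module.finite_of_finite F
  haveI := Fintype.ofFinite V
  rw [← Module.card_eq_pow_finrank (K := F) (V := V), ← Finset.card_univ,
    Finset.card_eq_sum_card_fiberwise (f := fun x => Q x) (t := Finset.univ) (fun x _ => Finset.mem_univ _)]
  refine Finset.sum_congr rfl fun c _ => ?_
  rw [cnt, Nat.card_eq_fintype_card, Fintype.card_subtype]

theorem sum_eps : ∑ c : F, eps c = 0 := by
  classical
  rw [← Finset.add_sum_erase _ _ (Finset.mem_univ (0 : F)), Finset.sum_congr rfl fun c hc =>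
    show eps c = -1 by rw [eps, if_neg (Finset.ne_of_mem_erase hc)], Finset.sum_const, Finset.card_erase_of_mem
    (Finset.mem_univ _), Finset.card_univ, eps, if_pos rfl, nsmul_eq_mul, Nat.cast_sub Fintype.card_pos]
  simp

theorem sum_eps_mul (c : F) : ∑ t : F, eps t * eps (c - t) = (Fintype.card F : ℤ) * eps c := by
  classical
  have hd : ∀ t : F, eps t = (Fintype.card F : ℤ) * (if t = 0 then 1 else 0) - 1 := fun t => by
    rw [eps]; split_ifs <;> ring
  rw [Finset.sum_congr rfl fun t _ => show eps t * eps (c - t)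
      = (Fintype.card F : ℤ) * ((if t = 0 then 1 else 0) * eps (c - t)) - eps (c - t) by rw [hd t]; ring,
    Finset.sum_sub_distrib, ← Finset.mul_sum, Fintype.sum_equiv (Equiv.subLeft c) (fun t => eps (c - t)) eps (fun t => rfl),
    sum_eps, sub_zero]
  simp

theorem Sgn.prod [FiniteDimensional F V] [FiniteDimensional F W] {d d' : ℕ} {σ σ' : ℤ} (h : Sgn Q d σ)
    (h' : Sgn R d' σ') : Sgn (Q.prod R) (d + d') (σ * σ') := by
  classical
  haveI : Finite V := Module.finite_of_finite F
  haveI : Finite W := Module.finite_of_finite F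
  intro c
  have e : cnt (Q.prod R) c = ∑ t, cnt Q t * cnt R (c - t) := by
    let E : {x : V × W // Q.prod R x = c} ≃ Σ t : F, {a : V // Q a = t} × {b : W // R b = c - t} :=
      { toFun := fun x => ⟨Q x.1.1, ⟨x.1.1, rfl⟩, ⟨x.1.2, by
          rw [eq_sub_iff_add_eq', ← QuadraticMap.prod_apply]; exact x.2⟩⟩
        invFun := fun y => ⟨(y.2.1.1, y.2.2.1), by rw [QuadraticMap.prod_apply, y.2.1.2, y.2.2.2]; ring⟩
        left_inv := fun x => rfl
        right_inv := fun y => by obtain ⟨t, ⟨a, rfl⟩, b⟩ := y; rfl }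
    rw [cnt, Nat.card_congr E, Nat.card_sigma]
    exact Finset.sum_congr rfl fun t _ => Nat.card_prod _ _
  set q := (Fintype.card F : ℤ) with hq
  have hq0 : q ≠ 0 := by rw [hq]; exact_mod_cast Fintype.card_pos.ne'
  refine mul_left_cancel₀ hq0 ?_
  rw [e, Nat.cast_sum, Finset.mul_sum, Finset.mul_sum, Finset.sum_congr rfl fun t _ =>
    show q * (q * ((cnt Q t * cnt R (c - t) : ℕ) : ℤ)) = q ^ (2 * d) * q ^ (2 * d')
      + (q ^ (2 * d) * (σ' * q ^ d')) * eps (c - t) + (q ^ (2 * d') * (σ * q ^ d)) * eps t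
      + (σ * σ' * (q ^ d * q ^ d')) * (eps t * eps (c - t)) by
      rw [Nat.cast_mul, show q * (q * ((cnt Q t : ℤ) * cnt R (c - t))) = (q * cnt Q t) * (q * cnt R (c - t)) by ring,
        h t, h' (c - t), ← hq]
      ring,
    Finset.sum_add_distrib, Finset.sum_add_distrib, Finset.sum_add_distrib, Finset.sum_const, ← Finset.mul_sum,
    ← Finset.mul_sum, ← Finset.mul_sum, sum_eps, sum_eps_mul,
    Fintype.sum_equiv (Equiv.subLeft c) (fun t => eps (c - t)) eps (fun t => rfl), sum_eps, Finset.card_univ,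
    nsmul_eq_mul, ← hq]
  ring

theorem Sgn.of_ne [FiniteDimensional F V] {d : ℕ} {σ : ℤ} (hd : finrank F V = 2 * d)
    (h : ∀ c : F, c ≠ 0 → (Fintype.card F : ℤ) * cnt Q c
      = (Fintype.card F : ℤ) ^ (2 * d) - σ * (Fintype.card F : ℤ) ^ d) : Sgn Q d σ := by
  classical
  intro c
  by_cases hc : c = 0
  swap
  · rw [h c hc, eps, if_neg hc]; ring
  subst hc
  set q := (Fintype.card F : ℤ) with hq
  have hsum : ∑ t : F, q * (cnt Q t : ℤ) = q * q ^ (2 * d) := by
    rw [← Finset.mul_sum, ← Nat.cast_sum, sum_cnt, hd, Nat.cast_pow]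
  rw [← Finset.add_sum_erase _ _ (Finset.mem_univ (0 : F)), Finset.sum_congr rfl fun t ht => h t (Finset.ne_of_mem_erase ht),
    Finset.sum_const, Finset.card_erase_of_mem (Finset.mem_univ _), Finset.card_univ, nsmul_eq_mul,
    Nat.cast_sub Fintype.card_pos, Nat.cast_one, ← hq] at hsum
  rw [eps, if_pos rfl, ← hq]
  linear_combination hsum

theorem Sgn.cnt_one {d : ℕ} {σ : ℤ} (h : Sgn Q d σ) :
    (Fintype.card F : ℤ) * cnt Q 1 = (Fintype.card F : ℤ) ^ (2 * d) - σ * (Fintype.card F : ℤ) ^ d := by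
  rw [h 1, eps, if_neg one_ne_zero]; ring

theorem card_fiber [FiniteDimensional F V] (f : V →ₗ[F] F) (hf : f ≠ 0) (c : F) :
    Fintype.card F * Nat.card {x : V // f x = c} = Fintype.card F ^ finrank F V := by
  haveI : Finite V := Module.finite_of_finite F
  haveI := Fintype.ofFinite V
  obtain ⟨w₀, hw₀⟩ : ∃ w₀, f w₀ ≠ 0 := not_forall.1 fun e => hf (LinearMap.ext e)
  obtain ⟨x₀, hx₀⟩ : ∃ x₀, f x₀ = 1 := ⟨(f w₀)⁻¹ • w₀, by rw [map_smul, smul_eq_mul, inv_mul_cancel₀ hw₀]⟩
  let E : V ≃ F × {x : V // f x = c} :=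
    { toFun := fun x => (f x - c, ⟨x - (f x - c) • x₀, by
        rw [map_sub, map_smul, hx₀, smul_eq_mul, mul_one, sub_sub_cancel]⟩)
      invFun := fun y => y.2.1 + y.1 • x₀
      left_inv := fun x => sub_add_cancel _ _
      right_inv := fun y => by
        obtain ⟨t, x, hx⟩ := y
        have ht : f (x + t • x₀) - c = t := by rw [map_add, map_smul, hx, hx₀, smul_eq_mul, mul_one, add_sub_cancel_left]
        refine Prod.ext ht (Subtype.ext ?_)
        show x + t • x₀ - (f (x + t • x₀) - c) • x₀ = x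
        rw [ht, add_sub_cancel_right] }
  rw [← Module.card_eq_pow_finrank (K := F) (V := V), ← Nat.card_eq_fintype_card, ← Nat.card_eq_fintype_card (α := V),
    Nat.card_congr E, Nat.card_prod]

end Count

section Semiregular

theorem sign_semiregular {α : Type*} [Fintype α] [DecidableEq α] {f : Equiv.Perm α} {n : ℕ} (hn : 1 < n)
    (hf : f ^ n = 1) (hreg : ∀ x i, (f ^ i) x = x → n ∣ i) :
    ∃ k, Fintype.card α = n * k ∧ Equiv.Perm.sign f = (-1) ^ (n * k + k) := by
  have hall : ∀ l ∈ f.cycleType, l = n := by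
    intro l hl
    refine Nat.dvd_antisymm ((Equiv.Perm.dvd_of_mem_cycleType hl).trans (orderOf_dvd_of_pow_eq_one hf)) ?_
    rw [Equiv.Perm.cycleType_def, Multiset.mem_map] at hl
    obtain ⟨c, hc, rfl⟩ := hl
    rw [Finset.mem_val] at hc
    obtain ⟨hcyc, -⟩ := Equiv.Perm.mem_cycleFactorsFinset_iff.1 hc
    obtain ⟨x, hx⟩ := hcyc.nonempty_support
    refine hreg x _ ?_
    rw [← Equiv.Perm.cycleOf_pow_apply_self, ← Equiv.Perm.cycle_is_cycleOf hx hc, Function.comp_apply, ← hcyc.orderOf,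
      pow_orderOf_eq_one, Equiv.Perm.one_apply]
  have hsupp : f.support = Finset.univ := Finset.eq_univ_iff_forall.2 fun x => Equiv.Perm.mem_support.2 fun e => by
    have := Nat.le_of_dvd one_pos (hreg x 1 (by rwa [pow_one]))
    omega
  have hrep : f.cycleType = Multiset.replicate (Multiset.card f.cycleType) n := Multiset.eq_replicate_card.2 hall
  have hsum := Equiv.Perm.sum_cycleType f
  rw [hrep, Multiset.sum_replicate, smul_eq_mul, hsupp, Finset.card_univ] at hsum
  refine ⟨Multiset.card f.cycleType, by rw [← hsum, mul_comm], ?_⟩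
  rw [Equiv.Perm.sign_of_cycleType, hrep]
  simp only [Multiset.sum_replicate, Multiset.card_replicate, smul_eq_mul]
  rw [mul_comm n]

variable {F : Type u} [Field F] {V : Type v} [AddCommGroup V] [Module F V] {Q : QuadraticForm F V}

/-- The action on vectors of a given value. -/
def permHom (Q : QuadraticForm F V) (c : F) : oGroup Q →* Equiv.Perm {x : V // Q x = c} where
  toFun g := g.1.toEquiv.subtypeEquiv fun x => by rw [LinearEquiv.coe_toEquiv, g.2]
  map_one' := Equiv.ext fun x => rfl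
  map_mul' a b := Equiv.ext fun x => rfl

theorem permHom_apply (g : oGroup Q) (c : F) (x : {x : V // Q x = c}) : (permHom Q c g x : V) = g.1 (x : V) := rfl

variable [Fintype F] [FiniteDimensional F V]

/-- A semiregular element of Omega is an even permutation. -/
theorem even_of_semiregular {g : oGroup Q} (hg : g ∈ omg Q) {n : ℕ} (hn : 1 < n) (hgn : g ^ n = 1)
    (hreg : ∀ x : V, Q x = 1 → ∀ i, (g ^ i).1 x = x → n ∣ i) : ∃ k, cnt Q 1 = n * k ∧ Even (n * k + k) := by
  classical
  haveI : Finite V := Module.finite_of_finite F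
  haveI := Fintype.ofFinite V
  obtain ⟨k, hk, hsign⟩ := sign_semiregular (f := permHom Q 1 g) hn (by rw [← map_pow, hgn, map_one])
    (fun x i hx => hreg _ x.2 i (by
      rw [← map_pow] at hx
      exact congrArg Subtype.val hx))
  have h1 : Equiv.Perm.sign.comp (permHom Q 1) g = 1 :=
    MonoidHom.mem_ker.1 (Abelianization.commutator_subset_ker (Equiv.Perm.sign.comp (permHom Q 1)) hg)
  rw [MonoidHom.comp_apply, hsign] at h1
  refine ⟨k, by rw [cnt, Nat.card_eq_fintype_card, hk], ?_⟩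
  by_contra hodd
  rw [Nat.not_even_iff_odd] at hodd
  rw [hodd.neg_one_pow] at h1
  exact absurd h1 (by decide)

end Semiregular

section Twist

variable {F : Type u} [Field F] [Fintype F]

/-- The invariant of a proper isometry outside Omega. -/
def Tw (x : SpinVal F) : Prop := x.1 = 1 ∧ x.2 ≠ 1

theorem tw_mul {x y : SpinVal F} (hx : Tw x) (hy : Tw y) : x * y = 1 := by
  refine Prod.ext ?_ ?_
  · show x.1 * y.1 = 1
    rw [hx.1, hy.1, one_mul]
  · show x.2 * y.2 = 1
    have h : x.2 = y.2 := by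
      by_contra hne
      classical
      haveI := Fintype.ofFinite (SqCls F)
      have h3 : ({1, x.2, y.2} : Finset (SqCls F)).card = 3 := by
        rw [Finset.card_insert_of_notMem (by simp [hx.2.symm, hy.2.symm]), Finset.card_pair hne]
      have h4 := ({1, x.2, y.2} : Finset (SqCls F)).card_le_univ
      have hle := (card_sqCls_le (F := F)).1
      rw [Nat.card_eq_fintype_card] at hle
      omega
    rw [h]
    exact OrthLow.sqCls_sq _

variable {V : Type v} [AddCommGroup V] [Module F V] [FiniteDimensional F V] {Q : QuadraticForm F V}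
  {W : Type w} [AddCommGroup W] [Module F W] [FiniteDimensional F W] {R : QuadraticForm F W}

theorem tw_of (h2 : (2 : F) ≠ 0) (hQ : (polarBilin Q).Nondegenerate) (hn : 2 ≤ finrank F V) {g : oGroup Q}
    (hd : LinearMap.det (toEnd Q g) = 1) (hg : g ∉ omg Q) : Tw (chi h2 hQ g) := by
  have h1 : (chi h2 hQ g).1 = 1 := by
    rw [det_eq h2 hQ] at hd
    rcases (show ∀ x : ZMod 2, x = 0 ∨ x = 1 by decide) (Multiplicative.toAdd (chi h2 hQ g).1) with he | he
    · exact Multiplicative.toAdd.injective he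
    · rw [he, sgn, if_neg one_ne_zero] at hd
      exact absurd (by linear_combination -hd) h2
  exact ⟨h1, fun h3 => hg ((mem_omg_iff h2 hQ hn).2 (Prod.ext h1 h3))⟩

theorem chi_congr (h2 : (2 : F) ≠ 0) (hQ : (polarBilin Q).Nondegenerate) (hR : (polarBilin R).Nondegenerate)
    (e : V ≃ₗ[F] W) (h : ∀ x, R (e x) = Q x) (g : oGroup Q) : chi h2 hR (oCongr e h g) = chi h2 hQ g := by
  refine DFunLike.congr_fun (hom_ext h2 hQ (f := (chi h2 hR).comp (oCongr e h).toMonoidHom) fun r a hr => ?_) g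
  have hb : ∀ x y, polar R (e x) (e y) = polar Q x y := fun x y => by simp only [polar, ← map_add, h]
  have hr' : IsRefl (oCongr e h r).1 R (e a) := by
    refine ⟨by rw [h]; exact hr.1, fun x => ?_⟩
    obtain ⟨y, rfl⟩ := e.surjective x
    show e (r.1 (e.symm (e y))) = _
    rw [LinearEquiv.symm_apply_apply, hr.2, map_sub, map_smul, hb, h]
  rw [MonoidHom.comp_apply, MulEquiv.coe_toMonoidHom, chi_refl h2 hR _ _ hr', chi_refl h2 hQ r a hr, reflVal, reflVal, h]

/-- A space of dimension `2d` and sign `σ` with a proper isometry of order `n` outside Omega. -/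
def Piece (F : Type u) [Field F] [Fintype F] (d : ℕ) (σ : ℤ) (n : ℕ) : Prop :=
  ∃ (Q : QuadraticForm F (Fin (2 * d) → F)) (hQ : (polarBilin Q).Nondegenerate), Sgn Q d σ ∧
    ∀ h2 : (2 : F) ≠ 0, ∃ g : oGroup Q, orderOf g = n ∧ Tw (chi h2 hQ g)

theorem Piece.of {d : ℕ} {σ : ℤ} {n : ℕ} (hQ : (polarBilin Q).Nondegenerate) (hd : finrank F V = 2 * d)
    (hs : Sgn Q d σ) (g : oGroup Q) (hg : orderOf g = n) (ht : ∀ h2 : (2 : F) ≠ 0, Tw (chi h2 hQ g)) :
    Piece F d σ n := by
  obtain ⟨e⟩ := FiniteDimensional.nonempty_linearEquiv_of_finrank_eq (R := F) (M := V) (M' := Fin (2 * d) → F)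
    (by rw [hd, Module.finrank_fin_fun])
  have h : ∀ x, (Q.comp e.symm.toLinearMap) (e x) = Q x := fun x => congrArg Q (e.symm_apply_apply x)
  refine ⟨Q.comp e.symm.toLinearMap, nondeg_congr e h hQ, hs.congr e h, fun h2 => ⟨oCongr e h g, ?_, ?_⟩⟩
  · rw [MulEquiv.orderOf_eq, hg]
  · rw [chi_congr h2 hQ]; exact ht h2

end Twist

section Tori

variable {F : Type u} [Field F] [Fintype F] (p : ℕ) [Fact p.Prime] [CharP F p]

omit [Fact p.Prime] [CharP F p] in
theorem torus_finish {V : Type v} [AddCommGroup V] [Module F V] [FiniteDimensional F V] {Q : QuadraticForm F V}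
    (h2 : (2 : F) ≠ 0) (hQ : (polarBilin Q).Nondegenerate) {e : ℕ} (he : 1 ≤ e) (hd : finrank F V = 2 * e) {σ : ℤ}
    (hσ : σ = 1 ∨ σ = -1) {n : ℕ} (hn : (n : ℤ) = (Fintype.card F : ℤ) ^ e - σ)
    (hcnt : ∀ c : F, c ≠ 0 → cnt Q c = n * Fintype.card F ^ (e - 1)) (g : oGroup Q) (hg : orderOf g = n)
    (hdet : LinearMap.det (toEnd Q g) = 1) (hreg : ∀ x : V, Q x = 1 → ∀ i, (g ^ i).1 x = x → n ∣ i) :
    Piece F e σ n := by
  refine Piece.of hQ hd (Sgn.of_ne hd fun c hc => ?_) g hg fun _ => tw_of h2 hQ (by omega) hdet fun hmem => ?_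
  · rw [hcnt c hc, Nat.cast_mul, Nat.cast_pow, hn]
    obtain ⟨e', rfl⟩ : ∃ e', e = e' + 1 := ⟨e - 1, by omega⟩
    rw [Nat.add_sub_cancel]
    ring
  · have hodd : Fintype.card F % 2 = 1 :=
      FiniteField.odd_card_of_char_ne_two (fun h => h2 (by haveI := ringChar.of_eq h; exact CharTwo.two_eq_zero))
    have hq : Odd (Fintype.card F) := Nat.odd_iff.2 hodd
    have hq1 : Fintype.card F ^ 1 ≤ Fintype.card F ^ e := Nat.pow_le_pow_right (by omega) he
    rw [pow_one] at hq1
    have h3 : 3 ≤ Fintype.card F := by have := Fintype.one_lt_card (α := F); omega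
    have hp2 : Fintype.card F ^ e % 2 = 1 := Nat.odd_iff.1 hq.pow
    have hn2 : 1 < n ∧ n % 2 = 0 := by
      rcases hσ with rfl | rfl
      · have h : n + 1 = Fintype.card F ^ e := by
          have : ((n + 1 : ℕ) : ℤ) = ((Fintype.card F ^ e : ℕ) : ℤ) := by push_cast; linarith
          exact_mod_cast this
        omega
      · have h : n = Fintype.card F ^ e + 1 := by
          have : ((n : ℕ) : ℤ) = ((Fintype.card F ^ e + 1 : ℕ) : ℤ) := by push_cast; linarith
          exact_mod_cast this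
        omega
    obtain ⟨k, hk, hev⟩ := even_of_semiregular hmem hn2.1 (by rw [← hg, pow_orderOf_eq_one]) hreg
    rw [hcnt 1 one_ne_zero] at hk
    obtain rfl := Nat.eq_of_mul_eq_mul_left (by omega) hk
    rw [Nat.even_add] at hev
    have h1 : Odd (Fintype.card F ^ (e - 1)) := hq.pow
    exact Nat.not_even_iff_odd.2 h1 (hev.1 ((Nat.even_mul).2 (Or.inl (Nat.even_iff.2 hn2.2))))

theorem ext_card (e : ℕ) [NeZero e] :
    Nat.card (FiniteField.Extension F p e) = Fintype.card F ^ e := by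
  rw [FiniteField.natCard_extension, Nat.card_eq_fintype_card]

theorem det_lmul {L : Type w} [Field L] [Algebra F L] (u : L) (f : L →ₗ[F] L) (hf : ∀ x, f x = u * x) :
    LinearMap.det f = Algebra.norm F u := by
  rw [Algebra.norm_apply]
  congr 1
  exact LinearMap.ext fun x => hf x

include p

/-- The split torus. -/
theorem torus_plus (h2 : (2 : F) ≠ 0) (e : ℕ) (he : 1 ≤ e) : Piece F e 1 (Fintype.card F ^ e - 1) := by
  haveI : NeZero e := ⟨by omega⟩
  let K := FiniteField.Extension F p e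
  haveI : Finite K := Module.finite_of_finite F
  haveI := Fintype.ofFinite K
  have hK : Nat.card K = Fintype.card F ^ e := ext_card p e
  have hKd : finrank F K = e := FiniteField.finrank_extension F p e
  let β : K →ₗ[F] K →ₗ[F] F := Algebra.traceForm F K
  have hβ : ∀ a, (∀ b, β a b = 0) → a = 0 := (traceForm_nondegenerate F K).1
  let Q : QuadraticForm F (K × K) :=
    LinearMap.BilinMap.toQuadraticMap (β.compl₁₂ (LinearMap.fst F K K) (LinearMap.snd F K K))
  have hQ : ∀ a b, Q (a, b) = Algebra.trace F K (a * b) := fun a b => rfl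
  have hpol : ∀ x y : K × K, polar Q x y = β x.1 y.2 + β y.1 x.2 := fun x y => by
    rw [LinearMap.BilinMap.polar_toQuadraticMap]
    rfl
  have hnd : (polarBilin Q).Nondegenerate := by
    refine nondeg_of fun x hx => Prod.ext (hβ _ fun b => ?_) ?_
    · have := hx (0, b)
      rwa [hpol, map_zero, LinearMap.zero_apply, add_zero] at this
    · refine hβ _ fun a => ?_
      have := hx (a, 0)
      rw [hpol, map_zero, zero_add] at this
      show Algebra.traceForm F K x.2 a = 0
      rw [Algebra.traceForm_apply, mul_comm, ← Algebra.traceForm_apply]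
      exact this
  let ρ : Kˣ →* oGroup Q :=
    { toFun := fun u => ⟨((LinearEquiv.smulOfUnit u).restrictScalars F).prodCongr ((LinearEquiv.smulOfUnit u⁻¹).restrictScalars F),
        fun x => by
          show Q ((u : K) * x.1, ((u⁻¹ : Kˣ) : K) * x.2) = Q (x.1, x.2)
          rw [hQ, hQ, mul_mul_mul_comm, Units.mul_inv, one_mul]⟩
      map_one' := Subtype.ext (LinearEquiv.ext fun x => by
        show ((1 : K) * x.1, (((1 : Kˣ)⁻¹ : Kˣ) : K) * x.2) = x
        rw [inv_one, Units.val_one, one_mul, one_mul])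
      map_mul' := fun a b => Subtype.ext (LinearEquiv.ext fun x => by
        show (((a * b : Kˣ) : K) * x.1, (((a * b)⁻¹ : Kˣ) : K) * x.2) = ((a : K) * ((b : K) * x.1), ((a⁻¹ : Kˣ) : K) * (((b⁻¹ : Kˣ) : K) * x.2))
        rw [mul_inv, Units.val_mul, Units.val_mul, mul_assoc, mul_assoc]) }
  have hρ : Function.Injective ρ := fun a b h => by
    have := congrArg Prod.fst (LinearEquiv.congr_fun (congrArg Subtype.val h) ((1 : K), (0 : K)))
    change (a : K) * 1 = (b : K) * 1 at this
    rw [mul_one, mul_one] at this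
    exact Units.ext this
  obtain ⟨u, hu⟩ := IsCyclic.exists_ofOrder_eq_natCard (α := Kˣ)
  have hux : orderOf u = Fintype.card F ^ e - 1 := by rw [hu, Nat.card_units, hK]
  have hq1 : 1 ≤ Fintype.card F ^ e := Nat.one_le_pow _ _ Fintype.card_pos
  refine torus_finish h2 hnd he (by rw [Module.finrank_prod, hKd, two_mul]) (Or.inl rfl)
    (by rw [Nat.cast_sub hq1]; push_cast; ring) (fun c hc => ?_) (ρ u) (by rw [orderOf_injective ρ hρ, hux]) ?_
    (fun x hx i hi => ?_)
  · let E : {x : K × K // Q x = c} ≃ Kˣ × {z : K // Algebra.trace F K z = c} :=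
      { toFun := fun x => (Units.mk0 x.1.1 fun h0 => hc (by
            have := x.2; rw [show (x.1 : K × K) = (x.1.1, x.1.2) from rfl, hQ, h0, zero_mul, map_zero] at this; exact this.symm),
          ⟨x.1.1 * x.1.2, by rw [← hQ]; exact x.2⟩)
        invFun := fun y => ⟨((y.1 : K), (y.1 : K)⁻¹ * y.2.1), by
          rw [hQ, ← mul_assoc, mul_inv_cancel₀ y.1.ne_zero, one_mul]; exact y.2.2⟩
        left_inv := fun x => by
          obtain ⟨⟨a, b⟩, hab⟩ := x
          refine Subtype.ext (Prod.ext rfl ?_)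
          have ha : a ≠ 0 := fun h0 => hc (by rw [hQ, h0, zero_mul, map_zero] at hab; exact hab.symm)
          show a⁻¹ * (a * b) = b
          rw [inv_mul_cancel_left₀ ha]
        right_inv := fun y => by
          obtain ⟨u, z, hz⟩ := y
          refine Prod.ext (Units.ext rfl) (Subtype.ext ?_)
          show (u : K) * ((u : K)⁻¹ * z) = z
          rw [mul_inv_cancel_left₀ u.ne_zero] }
    have hf := card_fiber (Algebra.trace F K) (Algebra.trace_ne_zero F K) c
    rw [hKd] at hf
    rw [cnt, Nat.card_congr E, Nat.card_prod, Nat.card_units, hK]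
    congr 1
    refine Nat.eq_of_mul_eq_mul_left (Fintype.card_pos (α := F)) ?_
    rw [hf, ← pow_succ', Nat.sub_add_cancel he]
  · have e1 : toEnd Q (ρ u) = LinearMap.prodMap ((LinearEquiv.smulOfUnit u).restrictScalars F).toLinearMap
        ((LinearEquiv.smulOfUnit u⁻¹).restrictScalars F).toLinearMap := LinearMap.ext fun x => rfl
    rw [e1, LinearMap.det_prodMap, det_lmul (u : K) _ (fun x => rfl), det_lmul ((u⁻¹ : Kˣ) : K) _ (fun x => rfl),
      ← map_mul, Units.mul_inv, map_one]
  · rw [← map_pow] at hi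
    have h1 : ((u ^ i : Kˣ) : K) * x.1 = x.1 := congrArg Prod.fst hi
    have hx0 : x.1 ≠ 0 := fun h0 => one_ne_zero (by
      rw [show x = (x.1, x.2) from rfl, hQ, h0, zero_mul, map_zero] at hx; exact hx.symm)
    rw [← hux]
    exact orderOf_dvd_of_pow_eq_one (Units.ext (mul_right_cancel₀ hx0 (by rw [h1, Units.val_one, one_mul])))

/-- The non-split torus. -/
theorem torus_minus (h2 : (2 : F) ≠ 0) (e : ℕ) (he : 1 ≤ e) : Piece F e (-1) (Fintype.card F ^ e + 1) := by
  classical
  haveI : NeZero (2 * e) := ⟨by omega⟩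
  let L := FiniteField.Extension F p (2 * e)
  haveI : Finite L := Module.finite_of_finite F
  haveI := Fintype.ofFinite L
  set q := Fintype.card F with hq
  set Q0 := q ^ e with hQ0
  have hq3 : 1 < q := Fintype.one_lt_card
  have hQ02 : 1 < Q0 := Nat.one_lt_pow (by omega) hq3
  have hL : Fintype.card L = Q0 * Q0 := by
    rw [← Nat.card_eq_fintype_card, ext_card p, hQ0, ← pow_add, two_mul]
  let σ : L →ₐ[F] L := (FiniteField.frobeniusAlgHom F L) ^ e
  have hσ : ∀ x, σ x = x ^ Q0 := by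
    intro x
    show ((FiniteField.frobeniusAlgHom F L) ^ e) x = x ^ Q0
    rw [AlgHom.coe_pow, FiniteField.coe_frobeniusAlgHom, pow_iterate]
  have hσσ : ∀ x, σ (σ x) = x := fun x => by rw [hσ, hσ, ← pow_mul, ← hL, FiniteField.pow_card]
  let σe : L ≃ₐ[F] L := AlgEquiv.ofAlgHom σ σ (AlgHom.ext hσσ) (AlgHom.ext hσσ)
  have htr : ∀ a, Algebra.trace F L (σ a) = Algebra.trace F L a := fun a => Algebra.trace_eq_of_algEquiv σe a
  let B : L →ₗ[F] L →ₗ[F] F := LinearMap.mk₂ F (fun x y => Algebra.trace F L (x * σ y))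
    (fun x x' y => by rw [add_mul, map_add]) (fun a x y => by rw [smul_mul_assoc, map_smul])
    (fun x y y' => by rw [map_add, mul_add, map_add]) (fun a x y => by rw [map_smul, mul_smul_comm, map_smul])
  let Q : QuadraticForm F L := LinearMap.BilinMap.toQuadraticMap B
  have hQ : ∀ x, Q x = Algebra.trace F L (x * σ x) := fun x => rfl
  have hpol : ∀ x y, polar Q x y = 2 * Algebra.trace F L (x * σ y) := fun x y => by
    rw [LinearMap.BilinMap.polar_toQuadraticMap]
    show Algebra.trace F L (x * σ y) + Algebra.trace F L (y * σ x) = _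
    rw [← htr (y * σ x), map_mul σ, hσσ, mul_comm (σ y) x]
    exact (two_mul _).symm
  have hnd : (polarBilin Q).Nondegenerate := by
    refine nondeg_of fun x hx => (traceForm_nondegenerate F L).1 x fun b => ?_
    have := hx (σ b)
    rw [hpol, hσσ] at this
    exact (mul_eq_zero.1 this).resolve_left h2
  obtain ⟨g₀, hg₀⟩ := IsCyclic.exists_ofOrder_eq_natCard (α := Lˣ)
  have hLu : Nat.card Lˣ = (Q0 + 1) * (Q0 - 1) := by
    rw [Nat.card_units, Nat.card_eq_fintype_card, hL, ← Nat.sq_sub_sq, one_pow, _root_.sq]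
  let nm : Lˣ →* Lˣ := powMonoidHom (Q0 + 1)
  have hnm : ∀ u : Lˣ, ((nm u : Lˣ) : L) = u * σ u := fun u => by
    rw [powMonoidHom_apply, Units.val_pow_eq_pow_val, hσ, pow_succ']
  have hker : Nat.card nm.ker = Q0 + 1 := by
    rw [IsCyclic.card_powMonoidHom_ker, hLu, Nat.gcd_mul_right_left]
  have hrange : nm.range = (powMonoidHom (Q0 - 1) : Lˣ →* Lˣ).ker := by
    refine Subgroup.eq_of_le_of_card_ge ?_ ?_
    · rintro _ ⟨x, rfl⟩
      rw [MonoidHom.mem_ker, powMonoidHom_apply, powMonoidHom_apply, ← pow_mul, ← hLu, pow_card_eq_one']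
    · rw [IsCyclic.card_powMonoidHom_ker, hLu, Nat.gcd_mul_left_left]
      refine le_of_eq (Nat.eq_of_mul_eq_mul_left (show 0 < Q0 + 1 by omega) ?_)
      conv_rhs => arg 1; rw [← hker]
      rw [← Subgroup.index_ker, Subgroup.card_mul_index, hLu]
  let K : Submodule F L := LinearMap.ker (σ.toLinearMap - LinearMap.id)
  have hKm : ∀ z, z ∈ K ↔ σ z = z := fun z => by
    rw [LinearMap.mem_ker, LinearMap.sub_apply, sub_eq_zero]; rfl
  have hFix : ∀ u : Lˣ, u ∈ nm.range ↔ (u : L) ∈ K := fun u => by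
    rw [hrange, MonoidHom.mem_ker, powMonoidHom_apply, hKm, hσ, Units.ext_iff, Units.val_pow_eq_pow_val, Units.val_one]
    refine ⟨fun h => ?_, fun h => mul_right_cancel₀ u.ne_zero ?_⟩
    · conv_lhs => rw [show Q0 = Q0 - 1 + 1 by omega, pow_succ, h, one_mul]
    · rw [← pow_succ, show Q0 - 1 + 1 = Q0 by omega, h, one_mul]
  let E0 : {u : Lˣ // u ∈ nm.range} ≃ {z : K // z ≠ 0} :=
    { toFun := fun u => ⟨⟨(u.1 : L), (hFix _).1 u.2⟩, fun h => u.1.ne_zero (congrArg Subtype.val h)⟩
      invFun := fun z => ⟨Units.mk0 (z.1 : L) fun h => z.2 (Subtype.ext h), (hFix _).2 z.1.2⟩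
      left_inv := fun u => Subtype.ext (Units.ext rfl)
      right_inv := fun z => rfl }
  have hKc : Nat.card K = Q0 := by
    have h1 : Nat.card nm.range = Q0 - 1 := by rw [hrange, IsCyclic.card_powMonoidHom_ker, hLu, Nat.gcd_mul_left_left]
    rw [← Nat.card_congr (Equiv.optionSubtypeNe (0 : K)), Finite.card_option, ← Nat.card_congr E0]
    show Nat.card nm.range + 1 = Q0
    omega
  have hKd : q ^ finrank F K = Q0 := by
    rw [← hKc, Nat.card_eq_fintype_card, Module.card_eq_pow_finrank (K := F) (V := K)]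
  let f : K →ₗ[F] F := (Algebra.trace F L).comp K.subtype
  have hf0 : f ≠ 0 := fun h0 => by
    refine Algebra.trace_ne_zero F L (LinearMap.ext fun y => ?_)
    have h1 : f ⟨y + σ y, (hKm _).2 (by rw [map_add, hσσ, add_comm])⟩ = 0 := by rw [h0]; rfl
    change Algebra.trace F L (y + σ y) = 0 at h1
    rw [map_add, htr, ← two_mul] at h1
    exact (mul_eq_zero.1 h1).resolve_left h2
  have hσ1 : ∀ u : Lˣ, u ∈ nm.ker → (u : L) * σ u = 1 := fun u hu => by
    rw [← hnm, MonoidHom.mem_ker.1 hu, Units.val_one]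
  let ρ : nm.ker →* oGroup Q :=
    { toFun := fun u => ⟨(LinearEquiv.smulOfUnit (u : Lˣ)).restrictScalars F, fun x => by
        show Q (((u : Lˣ) : L) * x) = Q x
        rw [hQ, hQ, map_mul σ, mul_mul_mul_comm, hσ1 _ u.2, one_mul]⟩
      map_one' := Subtype.ext (LinearEquiv.ext fun x => one_mul x)
      map_mul' := fun a b => Subtype.ext (LinearEquiv.ext fun x => mul_assoc _ _ x) }
  have hρ : Function.Injective ρ := fun a b h => by
    have := LinearEquiv.congr_fun (congrArg Subtype.val h) (1 : L)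
    change ((a : Lˣ) : L) * 1 = ((b : Lˣ) : L) * 1 at this
    rw [mul_one, mul_one] at this
    exact Subtype.ext (Units.ext this)
  have hu0 : g₀ ^ (Q0 - 1) ∈ nm.ker := by
    rw [MonoidHom.mem_ker, powMonoidHom_apply, ← pow_mul, mul_comm (Q0 - 1) (Q0 + 1), ← hLu, pow_card_eq_one']
  let u : nm.ker := ⟨g₀ ^ (Q0 - 1), hu0⟩
  have hux : orderOf u = Q0 + 1 := by
    rw [← orderOf_injective nm.ker.subtype Subtype.coe_injective u]
    show orderOf (g₀ ^ (Q0 - 1)) = _
    rw [orderOf_pow_of_dvd (by omega) (by rw [hg₀, hLu]; exact dvd_mul_left _ _), hg₀, hLu,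
      Nat.mul_div_cancel _ (by omega)]
  refine torus_finish h2 hnd he (FiniteField.finrank_extension F p (2 * e)) (Or.inr rfl)
    (by rw [hQ0, hq]; push_cast; ring) (fun c hc => ?_) (ρ u) (by rw [orderOf_injective ρ hρ, hux]) ?_
    (fun x hx i hi => ?_)
  · let E1 : {x : L // Q x = c} ≃ {u : Lˣ // Algebra.trace F L ((nm u : Lˣ) : L) = c} :=
      { toFun := fun x => ⟨Units.mk0 x.1 fun h0 => hc (by rw [← x.2, h0, map_zero]), by
          rw [hnm, Units.val_mk0, ← hQ]; exact x.2⟩
        invFun := fun u => ⟨(u.1 : L), by rw [hQ, ← hnm]; exact u.2⟩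
        left_inv := fun x => rfl
        right_inv := fun u => Subtype.ext (Units.ext rfl) }
    let T : Finset Lˣ := (Finset.univ.image nm).filter fun z => Algebra.trace F L (z : L) = c
    have hT : T.card = Nat.card {z : K // f z = c} := by
      rw [Nat.card_eq_fintype_card, Fintype.card_subtype]
      refine Finset.card_bij (fun z hz => ⟨(z : L), (hFix z).1 (by
          obtain ⟨x, -, rfl⟩ := Finset.mem_image.1 (Finset.mem_filter.1 hz).1; exact ⟨x, rfl⟩)⟩) (fun z hz => ?_)
        (fun z _ z' _ h => Units.ext (congrArg Subtype.val h)) fun z hz => ?_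
      · exact Finset.mem_filter.2 ⟨Finset.mem_univ _, (Finset.mem_filter.1 hz).2⟩
      · have hz0 : (z : L) ≠ 0 := fun h0 => hc (by
          rw [← (Finset.mem_filter.1 hz).2]; show Algebra.trace F L (z : L) = 0; rw [h0, map_zero])
        obtain ⟨x, hx⟩ := (hFix (Units.mk0 _ hz0)).2 z.2
        exact ⟨Units.mk0 _ hz0, Finset.mem_filter.2 ⟨Finset.mem_image.2 ⟨x, Finset.mem_univ _, hx⟩,
          (Finset.mem_filter.1 hz).2⟩, Subtype.ext rfl⟩
    rw [cnt, Nat.card_congr E1, Nat.card_eq_fintype_card, Fintype.card_subtype,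
      Finset.card_eq_sum_card_fiberwise (f := nm) (t := T) (fun x hx => Finset.mem_filter.2
        ⟨Finset.mem_image.2 ⟨x, Finset.mem_univ _, rfl⟩, (Finset.mem_filter.1 hx).2⟩),
      Finset.sum_congr rfl (fun z hz => show _ = Q0 + 1 from ?_), Finset.sum_const, smul_eq_mul, mul_comm, hT]
    · congr 1
      have hf := card_fiber f hf0 c
      rw [hKd, hQ0] at hf
      refine Nat.eq_of_mul_eq_mul_left (Fintype.card_pos (α := F)) ?_
      rw [hf, ← pow_succ', Nat.sub_add_cancel he]
    · obtain ⟨x, -, hx⟩ := Finset.mem_image.1 (Finset.mem_filter.1 hz).1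
      rw [← hker, Finset.filter_filter, Finset.filter_congr (q := fun y => nm y = z) (fun y _ =>
        ⟨fun h => h.2, fun h => ⟨by rw [h]; exact (Finset.mem_filter.1 hz).2, h⟩⟩),
        MonoidHom.card_fiber_eq_of_mem_range nm ⟨x, hx⟩ ⟨1, map_one nm⟩, Nat.card_eq_fintype_card, Fintype.card_subtype]
      exact congrArg Finset.card (Finset.filter_congr fun y _ => by rw [MonoidHom.mem_ker])
  · rw [det_lmul ((g₀ ^ (Q0 - 1) : Lˣ) : L) _ (fun x => rfl), Units.val_pow_eq_pow_val, map_pow]
    obtain ⟨t, ht⟩ : q - 1 ∣ Q0 - 1 := by simpa using Nat.sub_dvd_pow_sub_pow q 1 e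
    rw [ht, pow_mul, FiniteField.pow_card_sub_one_eq_one _ (Algebra.norm_ne_zero_iff.2 g₀.ne_zero), one_pow]
  · rw [← map_pow] at hi
    have h1 : (((u ^ i : nm.ker) : Lˣ) : L) * x = x := hi
    have hx0 : x ≠ 0 := fun h0 => one_ne_zero (by rw [← hx, h0, map_zero])
    rw [← hux]
    exact orderOf_dvd_of_pow_eq_one (Subtype.ext (Units.ext (mul_right_cancel₀ hx0 (by
      rw [h1, OneMemClass.coe_one, Units.val_one, one_mul]))))

end Tori

section Classify

variable {F : Type u} [Field F] [Fintype F] {V : Type v} [AddCommGroup V] [Module F V] {W : Type w} [AddCommGroup W]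
  [Module F W]

/-- Isometric spaces. -/
def Iso (Q : QuadraticForm F V) (R : QuadraticForm F W) : Prop := ∃ e : V ≃ₗ[F] W, ∀ x, R (e x) = Q x

theorem Iso.symm {Q : QuadraticForm F V} {R : QuadraticForm F W} (h : Iso Q R) : Iso R Q := by
  obtain ⟨e, he⟩ := h
  exact ⟨e.symm, fun x => by rw [← he, LinearEquiv.apply_symm_apply]⟩

theorem Iso.trans {U : Type*} [AddCommGroup U] [Module F U] {Q : QuadraticForm F V} {R : QuadraticForm F W}
    {S : QuadraticForm F U} (h : Iso Q R) (h' : Iso R S) : Iso Q S := by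
  obtain ⟨e, he⟩ := h
  obtain ⟨e', he'⟩ := h'
  exact ⟨e.trans e', fun x => (he' (e x)).trans (he x)⟩

theorem exists_norm (h2 : (2 : F) ≠ 0) {n : ℕ} {α : F} (hα : ¬ IsSquare α) [FiniteDimensional F V]
    {P : QuadraticForm F V} (hP : (polarBilin P).Nondegenerate) (hX : finrank F V = n + 1) :
    ∃ (P' : QuadraticForm F (Fin (n + 1) → F)) (b : F) (e : Fin (n + 1) → (Fin (n + 1) → F)), Iso P P' ∧
      IsFrame P' e ∧ (b = 1 ∨ b = α) ∧ ∀ i, P' (e i) = if i = Fin.last n then b else 1 := by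
  obtain ⟨E⟩ := FiniteDimensional.nonempty_linearEquiv_of_finrank_eq (R := F) (M := V) (M' := Fin (n + 1) → F)
    (by rw [hX, Module.finrank_fin_fun])
  have h : ∀ x, (P.comp E.symm.toLinearMap) (E x) = P x := fun x => congrArg P (E.symm_apply_apply x)
  obtain ⟨e, he, h1, hb⟩ := exists_normal_frame (nondeg_congr E h hP) h2 (Module.finrank_fin_fun F) hα
  refine ⟨_, _, e, ⟨E, h⟩, he, hb, fun i => ?_⟩
  split_ifs with hi
  · rw [hi]
  · exact h1 i hi

theorem three_forms (h2 : (2 : F) ≠ 0) {n : ℕ} {U : Type*} [AddCommGroup U] [Module F U] [FiniteDimensional F V]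
    [FiniteDimensional F W] [FiniteDimensional F U] {Q : QuadraticForm F V} {R : QuadraticForm F W}
    {S : QuadraticForm F U} (hQ : (polarBilin Q).Nondegenerate) (hR : (polarBilin R).Nondegenerate)
    (hS : (polarBilin S).Nondegenerate) (hV : finrank F V = n + 1) (hW : finrank F W = n + 1)
    (hU : finrank F U = n + 1) : Iso Q R ∨ Iso Q S ∨ Iso R S := by
  obtain ⟨α, hα⟩ := FiniteField.exists_nonsquare (F := F) (fun h => h2 (by
    haveI := ringChar.of_eq h; exact CharTwo.two_eq_zero))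
  obtain ⟨Q', a, eQ, iQ, fQ, ha, vQ⟩ := exists_norm h2 hα hQ hV
  obtain ⟨R', b, eR, iR, fR, hb, vR⟩ := exists_norm h2 hα hR hW
  obtain ⟨S', c, eS, iS, fS, hc, vS⟩ := exists_norm h2 hα hS hU
  by_cases hab : a = b
  · exact Or.inl ((iQ.trans (exists_isometry_of_frames h2 fQ fR fun i => by rw [vQ, vR, hab])).trans iR.symm)
  by_cases hac : a = c
  · exact Or.inr (Or.inl ((iQ.trans (exists_isometry_of_frames h2 fQ fS fun i => by rw [vQ, vS, hac])).trans iS.symm))
  have hbc : b = c := by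
    rcases ha with rfl | rfl <;> rcases hb with rfl | rfl <;> rcases hc with rfl | rfl <;>
      first | rfl | exact absurd rfl hab | exact absurd rfl hac
  exact Or.inr (Or.inr ((iR.trans (exists_isometry_of_frames h2 fR fS fun i => by rw [vR, vS, hbc])).trans iS.symm))

variable {a b : F} (hab : ∀ z₁ z₂ : F, z₁ ^ 2 + a * z₁ * z₂ + b * z₂ ^ 2 = 0 → z₁ = 0 ∧ z₂ = 0)
include hab

theorem not_iso_minus {Q : QuadraticForm F V} (hs : Sgn Q 4 1) : ¬ Iso Q (qMinus F 3 a b) := by
  rintro ⟨e, he⟩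
  have h := hs 0
  rw [← cnt_congr e he, eps, if_pos rfl] at h
  have h0 := zeros_qMinus hab 3
  rw [Nat.card_eq_fintype_card (α := F)] at h0
  have hz : (cnt (qMinus F 3 a b) 0 : ℤ) + (Fintype.card F : ℤ) ^ (3 + 1)
      = (Fintype.card F : ℤ) ^ 3 + (Fintype.card F : ℤ) ^ (2 * 3 + 1) := by exact_mod_cast h0
  have hq : (1 : ℤ) < (Fintype.card F : ℤ) := by exact_mod_cast Fintype.one_lt_card
  have : 2 * ((Fintype.card F : ℤ) ^ 4 * ((Fintype.card F : ℤ) - 1)) = 0 := by
    linear_combination (Fintype.card F : ℤ) * hz - h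
  have h4 : (0 : ℤ) < (Fintype.card F : ℤ) ^ 4 := by positivity
  nlinarith

theorem qMinus_dim : finrank F ((Fin 3 ⊕ Fin 3) ⊕ Fin 2 → F) = 7 + 1 := by simp

variable (p : ℕ) [Fact p.Prime] [CharP F p] [FiniteDimensional F V] {Q : QuadraticForm F V} (h2 : (2 : F) ≠ 0)
  (hQ : (polarBilin Q).Nondegenerate) (hV : finrank F V = 8)
include p h2 hQ hV

omit hab in
theorem exists_plus : ∃ R : QuadraticForm F (Fin (2 * 4) → F), (polarBilin R).Nondegenerate ∧ Sgn R 4 1 := by
  obtain ⟨R, hR, hs, -⟩ := torus_plus (F := F) p h2 4 (by norm_num)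
  exact ⟨R, hR, hs⟩

theorem sgn_of_not_minus (h : ¬ Iso Q (qMinus F 3 a b)) : Sgn Q 4 1 := by
  obtain ⟨R, hR, hs⟩ := exists_plus p h2 hQ hV
  rcases three_forms h2 hQ hR (qMinus_nondeg hab 3) (n := 7) (by omega) (by rw [Module.finrank_fin_fun]) (qMinus_dim hab)
    with h1 | h1 | h1
  · obtain ⟨e, he⟩ := h1.symm
    exact hs.congr e he
  · exact absurd h1 h
  · exact absurd h1 (not_iso_minus hab hs)

theorem iso_minus (hσ : Sgn Q 4 (-1)) : Iso Q (qMinus F 3 a b) := by
  by_contra h
  have h1 := (sgn_of_not_minus hab p h2 hQ hV h).cnt_one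
  rw [hσ.cnt_one] at h1
  have h4 : (0 : ℤ) < (Fintype.card F : ℤ) ^ 4 := by
    have : (0 : ℤ) < (Fintype.card F : ℤ) := by exact_mod_cast Fintype.card_pos
    positivity
  linarith

end Classify

end Cfsg.Agent.OddOrth
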