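/-
Orders of fixed-point-free elements of Omega in dimension eight, plus type, odd characteristic.
-/
import Cfsg.Agent.Lib.Isospectral.OddOrth.Tori
import Cfsg.Agent.Lib.Isospectral.OddOrth.Orbits

set_option autoImplicit false
set_option linter.all false

universe u

namespace Cfsg.Agent.OddOrth

open Polynomial Matrix QuadraticMap Module Cfsg.Agent.Orth
open scoped Classical

section Lin

variable {K : Type*} [Field K] {ι : Type*} [Fintype ι] [DecidableEq ι]

/-- A matrix as an endomorphism of column vectors. -/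
noncomputable def lin (A : Matrix ι ι K) : Module.End K (ι → K) := Matrix.toLin' A

theorem lin_mul (A B : Matrix ι ι K) : lin (A * B) = lin A * lin B := Matrix.toLin'_mul A B

theorem lin_one : lin (1 : Matrix ι ι K) = 1 := Matrix.toLin'_one

theorem lin_pow (A : Matrix ι ι K) (i : ℕ) : lin (A ^ i) = lin A ^ i := by
  induction i with
  | zero => rw [pow_zero, pow_zero, lin_one]
  | succ i ih => rw [pow_succ, pow_succ, lin_mul, ih]

theorem lin_apply (A : Matrix ι ι K) (x : ι → K) : lin A x = A *ᵥ x := Matrix.toLin'_apply A x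

theorem lin_injective : Function.Injective (lin (ι := ι) (K := K)) := Matrix.toLin'.injective

theorem lin_charpoly (A : Matrix ι ι K) : (lin A).charpoly = A.charpoly := Matrix.charpoly_toLin' A

theorem charpoly_inv_eq (G : Matrix ι ι K) (hG : IsUnit G.det) {A : Matrix ι ι K} (hA : Aᵀ * G * A = G) :
    A⁻¹.charpoly = A.charpoly := by
  have h : A⁻¹ = G⁻¹ * (Aᵀ * G) := by
    refine Matrix.inv_eq_left_inv ?_
    rw [mul_assoc, hA, Matrix.nonsing_inv_mul _ hG]
  rw [h, Matrix.charpoly_mul_comm, mul_assoc, Matrix.mul_nonsing_inv _ hG, mul_one, Matrix.charpoly_transpose]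

end Lin

section Count

variable {F : Type u} [Field F] {ι : Type*} [Fintype ι] [DecidableEq ι]

/-- The eigenvalues form a multiset stable under inversion. -/
theorem count_inv (G : Matrix ι ι F) (hG : IsUnit G.det) {A : Matrix ι ι F} (hA : Aᵀ * G * A = G)
    (x : AlgebraicClosure F) :
    (A.map (algebraMap F (AlgebraicClosure F))).charpoly.roots.count x⁻¹ =
      (A.map (algebraMap F (AlgebraicClosure F))).charpoly.roots.count x := by
  classical
  set φ := algebraMap F (AlgebraicClosure F) with hφ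
  have hAK : (A.map φ)ᵀ * G.map φ * A.map φ = G.map φ := by
    rw [← Matrix.transpose_map, ← Matrix.map_mul, ← Matrix.map_mul, hA]
  have hGK : IsUnit (G.map φ).det := by
    rw [← RingHom.mapMatrix_apply, ← RingHom.map_det]; exact hG.map φ
  have hd : IsUnit (A.map φ).det := by
    have := congrArg Matrix.det hAK
    rw [det_mul, det_mul, det_transpose] at this
    exact isUnit_of_mul_isUnit_right (this.symm ▸ hGK)
  set p := (A.map φ).charpoly with hp
  have hp0 : p ≠ 0 := (Matrix.charpoly_monic _).ne_zero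
  obtain ⟨c, hc, hrev⟩ : ∃ c : AlgebraicClosure F, c ≠ 0 ∧ p = C c * p.reverse := by
    have h := Matrix.charpoly_inv (A.map φ) ((Matrix.isUnit_iff_isUnit_det _).2 hd)
    rw [charpoly_inv_eq (G.map φ) hGK hAK, ← hp, ← Matrix.reverse_charpoly, ← hp] at h
    refine ⟨(-1) ^ Fintype.card ι * Ring.inverse (A.map φ).det, mul_ne_zero (pow_ne_zero _ (by simp)) ?_, ?_⟩
    · rw [Ring.inverse_eq_inv']; exact inv_ne_zero hd.ne_zero
    · rw [map_mul, map_pow, map_neg, map_one]; exact h
  have key : ∀ y : AlgebraicClosure F, p.roots.count y ≤ p.roots.count y⁻¹ := by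
    intro y
    rcases eq_or_ne y 0 with rfl | hy
    · rw [_root_.inv_zero]
    rw [count_roots, count_roots]
    obtain ⟨w, hw⟩ := pow_rootMultiplicity_dvd p y
    rw [le_rootMultiplicity_iff hp0]
    have hlin : (Polynomial.X - C y).reverse = C (-y) * (Polynomial.X - C y⁻¹) := by
      rw [Polynomial.reverse, natDegree_X_sub_C, reflect_sub]
      rw [show reflect 1 (Polynomial.X : (AlgebraicClosure F)[X]) = 1 by simpa using reflect_one_X, reflect_C, pow_one]
      rw [map_neg, mul_sub, ← map_neg, ← map_mul, neg_mul, mul_inv_cancel₀ hy, map_neg, map_neg, map_one]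
      ring
    have hpw : ∀ n : ℕ, ((Polynomial.X - C y) ^ n).reverse = C ((-y) ^ n) * (Polynomial.X - C y⁻¹) ^ n := by
      intro n
      induction n with
      | zero => simpa using (Polynomial.reverse_C (1 : AlgebraicClosure F))
      | succ n ih => rw [pow_succ, reverse_mul_of_domain, ih, hlin, map_pow, map_pow, pow_succ, pow_succ]; ring
    conv_rhs => rw [hrev, hw, reverse_mul_of_domain, hpw]
    exact Dvd.intro (C c * C ((-y) ^ rootMultiplicity y p) * w.reverse) (by ring)
  refine le_antisymm ?_ (key x)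
  simpa using key x⁻¹

theorem count_pow [Fintype F] (A : Matrix ι ι F) (x : AlgebraicClosure F) :
    (A.map (algebraMap F (AlgebraicClosure F))).charpoly.roots.count (x ^ Fintype.card F) =
      (A.map (algebraMap F (AlgebraicClosure F))).charpoly.roots.count x := by
  classical
  set φ := algebraMap F (AlgebraicClosure F) with hφ
  let fr : AlgebraicClosure F →+* AlgebraicClosure F :=
    (FiniteField.frobeniusAlgHom F (AlgebraicClosure F)).toRingHom
  have hfr : ∀ y, fr y = y ^ Fintype.card F := fun y => rfl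
  have hcomp : fr.comp φ = φ := RingHom.ext fun a => by
    rw [RingHom.comp_apply, hfr, ← map_pow, FiniteField.pow_card]
  have hinj : Function.Injective fr := fr.injective
  have hmap : (A.map φ).charpoly.map fr = (A.map φ).charpoly := by
    rw [Matrix.charpoly_map, Polynomial.map_map, hcomp]
  have hsplit : Multiset.card (A.map φ).charpoly.roots = (A.map φ).charpoly.natDegree :=
    IsAlgClosed.card_roots_eq_natDegree
  have := Polynomial.roots_map_of_injective_of_card_eq_natDegree hinj hsplit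
  rw [hmap] at this
  conv_lhs => rw [← this, ← hfr, Multiset.count_map_eq_count' _ _ hinj]

end Count

section Eigen

variable {K : Type*} [Field K] {W : Type*} [AddCommGroup W] [Module K W] [FiniteDimensional K W]

theorem maxGen_eq {m : ℕ} (hm : (m : K) ≠ 0) {f : Module.End K W} (hf : f ^ m = 1) (μ : K) :
    f.maxGenEigenspace μ = f.eigenspace μ := by
  have hs : f.IsSemisimple := Module.End.isSemisimple_of_squarefree_aeval_eq_zero
    ((separable_X_pow_sub_C (1 : K) hm one_ne_zero).squarefree) (by simp [hf])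
  exact Module.End.IsFinitelySemisimple.maxGenEigenspace_eq_eigenspace hs.isFinitelySemisimple μ

theorem eigen_pow {f : Module.End K W} {μ : K} {x : W} (hx : x ∈ f.eigenspace μ) (i : ℕ) : (f ^ i) x = μ ^ i • x := by
  induction i with
  | zero => simp
  | succ i ih =>
    rw [pow_succ, Module.End.mul_apply, Module.End.mem_eigenspace_iff.1 hx, map_smul, ih, smul_smul, pow_succ']

/-- An isometry is never regular unipotent on a non-degenerate invariant subspace of even dimension. -/
theorem alt_bound (B : W →ₗ[K] W →ₗ[K] K) (hB : ∀ x y, B x y = B y x) (h2 : (2 : K) ≠ 0) {u : Module.End K W}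
    (hu : ∀ x y, B (u x) (u y) = B x y) {E : Submodule K W} (hE : ∀ x ∈ E, u x ∈ E) {b : ℕ}
    (hnil : ∀ x ∈ E, ((u - 1) ^ b) x = 0) (hnd : ∀ z ∈ E, (∀ y ∈ E, B z y = 0) → z = 0) {c : ℕ}
    (hc : finrank K E = c) (hev : Even c) (hc2 : 2 ≤ c) : ∀ x ∈ E, ((u - 1) ^ (c - 1)) x = 0 := by
  intro x hx
  by_contra hne
  have hN : ∀ y ∈ E, (u - 1) y ∈ E := fun y hy => by
    rw [LinearMap.sub_apply, Module.End.one_apply]; exact sub_mem (hE y hy) hy
  have hNi : ∀ i : ℕ, ∀ y ∈ E, ((u - 1) ^ i) y ∈ E := by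
    intro i
    induction i with
    | zero => intro y hy; exact hy
    | succ i ih => intro y hy; rw [pow_succ', Module.End.mul_apply]; exact hN _ (ih y hy)
  have hNc : ∀ y ∈ E, ((u - 1) ^ c) y = 0 := fun y hy => by
    by_contra h
    have := chain hN hnil c hy h
    omega
  have key : ∀ (j : ℕ) (a y : W), B (((u - 1) ^ j) a) ((u ^ j) y) = (-1) ^ j * B a (((u - 1) ^ j) y) := by
    intro j
    induction j with
    | zero => intro a y; simp
    | succ j ih =>
      intro a y
      have hcom : (u - 1) ((u ^ j) y) = (u ^ j) ((u - 1) y) := by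
        rw [← Module.End.mul_apply, ← Module.End.mul_apply,
          (((Commute.refl u).pow_right j).sub_left (Commute.one_left _)).eq]
      rw [pow_succ' (u - 1), pow_succ' u, Module.End.mul_apply, Module.End.mul_apply]
      have e : B ((u - 1) (((u - 1) ^ j) a)) (u ((u ^ j) y)) = -B (((u - 1) ^ j) a) ((u - 1) ((u ^ j) y)) := by
        rw [LinearMap.sub_apply u 1 (((u - 1) ^ j) a), Module.End.one_apply, map_sub, LinearMap.sub_apply, hu,
          LinearMap.sub_apply u 1 ((u ^ j) y), Module.End.one_apply, map_sub]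
        ring
      rw [e, hcom, ih, ← Module.End.mul_apply, ← pow_succ, ← pow_succ']
      ring
  have hskew : ∀ a ∈ E, ∀ y ∈ E, B (((u - 1) ^ (c - 1)) a) y = -B (((u - 1) ^ (c - 1)) y) a := by
    intro a ha y hy
    have hfix : u (((u - 1) ^ (c - 1)) a) = ((u - 1) ^ (c - 1)) a := by
      have h := hNc a ha
      rwa [show c = c - 1 + 1 by omega, pow_succ', Module.End.mul_apply, LinearMap.sub_apply, Module.End.one_apply,
        sub_eq_zero] at h
    have hfixj : ∀ j : ℕ, (u ^ j) (((u - 1) ^ (c - 1)) a) = ((u - 1) ^ (c - 1)) a := by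
      intro j
      induction j with
      | zero => rfl
      | succ j ih => rw [pow_succ, Module.End.mul_apply, hfix, ih]
    have hinvj : ∀ j : ℕ, ∀ v w, B ((u ^ j) v) ((u ^ j) w) = B v w := by
      intro j
      induction j with
      | zero => intro v w; rfl
      | succ j ih => intro v w; rw [pow_succ', Module.End.mul_apply, Module.End.mul_apply, hu, ih]
    rw [← hinvj (c - 1) _ y, hfixj, key, hB a]
    have ho : Odd (c - 1) := by
      rw [Nat.even_iff] at hev
      rw [Nat.odd_iff]; omega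
    rw [ho.neg_one_pow]
    ring
  refine hne (hnd _ (hNi _ x hx) ?_)
  have hxx : B (((u - 1) ^ (c - 1)) x) x = 0 := by
    have h := hskew x hx x hx
    exact (mul_eq_zero.1 (show (2 : K) * B (((u - 1) ^ (c - 1)) x) x = 0 by linear_combination h)).resolve_left h2
  have hmem : ∀ y ∈ E.map (u - 1), B (((u - 1) ^ (c - 1)) x) y = 0 := by
    rintro _ ⟨w, hw, rfl⟩
    rw [hskew x hx _ (hN w hw), ← Module.End.mul_apply, ← pow_succ, Nat.sub_add_cancel (by omega), hNc w hw, map_zero,
      LinearMap.zero_apply, neg_zero]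
  have hle : E.map (u - 1) ≤ E := Submodule.map_le_iff_le_comap.2 hN
  have hxm : x ∉ E.map (u - 1) := by
    rintro ⟨w, hw, rfl⟩
    apply hne
    rw [← Module.End.mul_apply, ← pow_succ, Nat.sub_add_cancel (by omega), hNc w hw]
  have h1 : c - 1 ≤ finrank K (E.map (u - 1)) := by
    have h := chain (E := E.map (u - 1)) (fun y hy => Submodule.mem_map_of_mem (hle hy))
      (fun y hy => hnil y (hle hy)) (c - 2) (Submodule.mem_map_of_mem hx) (by
        rw [← Module.End.mul_apply, ← pow_succ, show c - 2 + 1 = c - 1 by omega]; exact hne)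
    omega
  have hsup : E.map (u - 1) ⊔ Submodule.span K {x} = E := by
    refine Submodule.eq_of_le_of_finrank_le (sup_le hle ((Submodule.span_singleton_le_iff_mem x E).2 hx)) ?_
    have hlt : E.map (u - 1) < E.map (u - 1) ⊔ Submodule.span K {x} := lt_of_le_of_ne le_sup_left fun e =>
      hxm (e ▸ Submodule.mem_sup_right (Submodule.mem_span_singleton_self x))
    have := Submodule.finrank_lt_finrank_of_lt hlt
    omega
  intro y hy
  rw [← hsup, Submodule.mem_sup] at hy
  obtain ⟨y₁, hy₁, y₂, hy₂, rfl⟩ := hy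
  obtain ⟨t, rfl⟩ := Submodule.mem_span_singleton.1 hy₂
  rw [map_add, hmem _ hy₁, map_smul, hxx, smul_zero, add_zero]

end Eigen

/-- Numbers satisfying a property closed under divisors, covering the possible orders. -/
structure Targets (H : ℕ → Prop) (q p : ℕ) : Prop where
  dvd : ∀ {n m : ℕ}, H n → m ∣ n → H m
  t0 : H (Nat.lcm (q ^ 2 + 1) (q ^ 2 - 1))
  t3 : ∀ b : Bool, H (Nat.lcm (torVal q (3, b)) (torVal q (1, !b)))
  p1 : H (p * (q ^ 2 - 1))
  p2 : ∀ b : Bool, H (p * Nat.lcm (q ^ 2 + 1) (torVal q (1, b)))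
  p9 : p = 3 → H (9 * Nat.lcm (q + 1) (q - 1))
  p50 : p = 5 → H 50

variable {F : Type u} [Field F] [Fintype F]

set_option maxHeartbeats 4000000 in
/-- The orders of elements of Omega, plus type, whose semisimple part has no fixed vector. -/
theorem plus_bound (p : ℕ) [Fact p.Prime] [CharP F p] (h2 : (2 : F) ≠ 0) {Q : QuadraticForm F (Fin 8 → F)}
    (hQ : (polarBilin Q).Nondegenerate) (hs : Sgn Q 4 1) {g : oGroup Q} (hg : g ∈ omg Q) {k m : ℕ} (hm : ¬ p ∣ m)
    (hord : orderOf g = p ^ k * m) (hfree : ∀ x, (g ^ p ^ k).1 x = x → x = 0) {H : ℕ → Prop}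
    (hT : Targets H (Fintype.card F) p) : H (orderOf g) := by
  classical
  have hp : p.Prime := Fact.out
  have hp3 : 3 ≤ p := by
    have hne : p ≠ 2 := fun e => h2 (by
      have h : ((p : ℕ) : F) = 0 := CharP.cast_eq_zero F p
      rw [e] at h
      exact_mod_cast h)
    have := hp.two_le
    omega
  set q := Fintype.card F with hq
  have hqodd : Odd q := Nat.odd_iff.2 (FiniteField.odd_card_of_char_ne_two (fun h => h2 (by
    haveI := ringChar.of_eq h; exact CharTwo.two_eq_zero)))
  set φ := algebraMap F (AlgebraicClosure F) with hφ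
  haveI : CharP (AlgebraicClosure F) p := charP_of_injective_algebraMap φ.injective p
  have h2K : (2 : AlgebraicClosure F) ≠ 0 := by
    rw [← map_ofNat φ 2]
    exact (map_ne_zero φ).2 h2
  obtain ⟨A, hA⟩ : ∃ A : Matrix (Fin 8) (Fin 8) F, A = LinearMap.toMatrixAlgEquiv' (toEnd Q g) := ⟨_, rfl⟩
  have hAp : ∀ i : ℕ, A ^ i = LinearMap.toMatrixAlgEquiv' (toEnd Q (g ^ i)) := fun i => by
    rw [hA, map_pow (toEnd Q), map_pow]
  have hAv : ∀ (i : ℕ) v, (A ^ i) *ᵥ v = (g ^ i).1 v := fun i v => by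
    rw [hAp]
    show LinearMap.toMatrix' (toEnd Q (g ^ i)) *ᵥ v = _
    rw [LinearMap.toMatrix'_mulVec]
    rfl
  have hAi : ∀ i : ℕ, A ^ i = 1 ↔ g ^ i = 1 := fun i => by
    rw [hAp, ← map_one LinearMap.toMatrixAlgEquiv', EquivLike.apply_eq_iff_eq, ← map_one (toEnd Q),
      toEnd_injective.eq_iff]
  obtain ⟨G, hGdef⟩ : ∃ G : Matrix (Fin 8) (Fin 8) F, G = LinearMap.toMatrix₂' F (polarBilin Q) := ⟨_, rfl⟩
  have hG : G.det ≠ 0 := hGdef ▸ toMatrix_det_ne_zero Q hQ
  have hGs : Gᵀ = G := by
    rw [hGdef]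
    ext i j
    rw [Matrix.transpose_apply, LinearMap.toMatrix₂'_apply, LinearMap.toMatrix₂'_apply, polarBilin_apply_apply,
      polarBilin_apply_apply, b_comm]
  have hpres : ∀ i : ℕ, (A ^ i)ᵀ * G * A ^ i = G := by
    intro i
    have h1 := LinearMap.toMatrix₂'_compl₁₂ (polarBilin Q) (Matrix.toLin' (A ^ i)) (Matrix.toLin' (A ^ i))
    rw [LinearMap.toMatrix'_toLin', show (polarBilin Q).compl₁₂ (Matrix.toLin' (A ^ i)) (Matrix.toLin' (A ^ i))
      = polarBilin Q from LinearMap.ext fun x => LinearMap.ext fun y => by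
        rw [LinearMap.compl₁₂_apply, Matrix.toLin'_apply, Matrix.toLin'_apply, hAv, hAv, polarBilin_apply_apply,
          polarBilin_apply_apply, b_map (g ^ i).2], ← hGdef] at h1
    exact h1.symm
  set S := A ^ p ^ k with hSdef
  set f := lin (S.map φ) with hf
  have hSm : S ^ m = 1 := by rw [hSdef, ← pow_mul, hAi, ← hord, pow_orderOf_eq_one]
  have hmK : (m : AlgebraicClosure F) ≠ 0 := fun e => hm ((CharP.cast_eq_zero_iff _ p m).1 e)
  have hm0 : m ≠ 0 := fun e => hm (e ▸ dvd_zero p)
  have hfm : f ^ m = 1 := by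
    rw [hf, ← lin_pow, ← Matrix.map_pow _, hSm, Matrix.map_one _ φ.map_zero φ.map_one, lin_one]
  set R := (S.map φ).charpoly.roots with hR
  have hcount : ∀ μ, R.count μ = finrank (AlgebraicClosure F) (f.eigenspace μ) := by
    intro μ
    rw [hR, count_roots, ← maxGen_eq hmK hfm, LinearMap.finrank_maxGenEigenspace_eq, hf, lin_charpoly]
  have hbot1 : f.eigenspace 1 = ⊥ := by
    have hd : (S - 1).det ≠ 0 := fun h0 => by
      obtain ⟨v, hv0, hv⟩ := Matrix.exists_mulVec_eq_zero_iff.2 h0
      rw [Matrix.sub_mulVec, Matrix.one_mulVec, sub_eq_zero, hSdef, hAv] at hv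
      exact hv0 (hfree v hv)
    rw [Submodule.eq_bot_iff]
    intro x hx
    rw [Module.End.mem_eigenspace_iff, hf, lin_apply, one_smul] at hx
    refine Matrix.eq_zero_of_mulVec_eq_zero (M := (S - 1).map φ) ?_ ?_
    · rw [← RingHom.mapMatrix_apply, ← RingHom.map_det]; exact (map_ne_zero φ).2 hd
    · rw [Matrix.map_sub _ (map_sub φ), Matrix.map_one _ φ.map_zero φ.map_one, Matrix.sub_mulVec, Matrix.one_mulVec,
        hx, sub_self]
  have hbot0 : f.eigenspace 0 = ⊥ := by
    rw [Submodule.eq_bot_iff]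
    intro x hx
    have h := eigen_pow hx m
    rwa [hfm, Module.End.one_apply, zero_pow hm0, zero_smul] at h
  have hinj : Function.Injective fun x : AlgebraicClosure F => x ^ q := fun a b h =>
    (FiniteField.frobeniusAlgHom F (AlgebraicClosure F)).toRingHom.injective h
  have hstable : Stable q R := by
    refine ⟨fun x => count_pow S x, fun x => count_inv G (Ne.isUnit hG) (hpres _) x, fun x hx => ⟨?_, ?_⟩⟩ <;>
      rintro rfl <;> have h1 := Multiset.count_pos.2 hx <;> rw [hcount] at h1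
    · rw [hbot0, finrank_bot] at h1; exact lt_irrefl 0 h1
    · rw [hbot1, finrank_bot] at h1; exact lt_irrefl 0 h1
  have hcard : R.card = 8 := by
    rw [hR, IsAlgClosed.card_roots_eq_natDegree, Matrix.charpoly_natDegree_eq_dim, Fintype.card_fin]
  have hspan : ∀ (T : Submodule (AlgebraicClosure F) (Fin 8 → AlgebraicClosure F)),
      (∀ μ ∈ R, f.eigenspace μ ≤ T) → ∀ x, x ∈ T := by
    intro T hT' x
    have hx : x ∈ ⨆ μ, f.maxGenEigenspace μ := by rw [Module.End.iSup_maxGenEigenspace_eq_top]; trivial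
    induction hx using Submodule.iSup_induction' with
    | mem μ x hx =>
      rw [maxGen_eq hmK hfm] at hx
      by_cases hx0 : x = 0
      · rw [hx0]; exact T.zero_mem
      refine hT' μ ?_ hx
      rw [← Multiset.count_pos, hcount]
      exact Submodule.one_le_finrank_iff.2 fun e => hx0 (by simpa [e] using hx)
    | zero => exact T.zero_mem
    | add x y _ _ ihx ihy => exact T.add_mem ihx ihy
  have hroots : ∀ X : ℕ, (∀ y ∈ R, y ^ X = 1) → g ^ (p ^ k * X) = 1 := by
    intro X hX
    rw [← hAi, pow_mul, ← hSdef]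
    refine Matrix.map_injective φ.injective ?_
    beta_reduce
    rw [Matrix.map_pow, Matrix.map_one _ φ.map_zero φ.map_one]
    apply lin_injective
    rw [lin_pow, lin_one, ← hf]
    refine LinearMap.ext fun x => sub_eq_zero.1 ?_
    have h := hspan (LinearMap.ker (f ^ X - 1)) (fun μ hμ y hy => by
      rw [LinearMap.mem_ker, LinearMap.sub_apply, Module.End.one_apply, eigen_pow hy, hX μ hμ, one_smul, sub_self]) x
    rwa [LinearMap.mem_ker, LinearMap.sub_apply] at h
  have fin : ∀ X T : ℕ, (∀ y ∈ R, y ^ X = 1) → H T → p ^ k * X ∣ T → H (orderOf g) := fun X T hX hHT hd =>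
    hT.dvd hHT ((orderOf_dvd_of_pow_eq_one (hroots X hX)).trans hd)
  have same : ∀ {y x : AlgebraicClosure F} {X : ℕ}, orderOf y = orderOf x → x ^ X = 1 → y ^ X = 1 :=
    fun e hx => orderOf_dvd_iff_pow_eq_one.1 (e ▸ orderOf_dvd_of_pow_eq_one hx)
  have of_dvd : ∀ {y : AlgebraicClosure F} {X Y : ℕ}, X ∣ Y → y ^ X = 1 → y ^ Y = 1 := by
    intro y X Y hd hy
    obtain ⟨c, rfl⟩ := hd
    rw [pow_mul, hy, one_pow]
  obtain ⟨T0, hT0⟩ : ∃ T0, T0 = Nat.lcm (q ^ 2 + 1) (q ^ 2 - 1) := ⟨_, rfl⟩
  have h2T0 : ∀ b, torVal q (2, b) ∣ T0 := fun b => by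
    rw [hT0]
    cases b
    · exact Nat.dvd_lcm_right _ _
    · exact Nat.dvd_lcm_left _ _
  rcases Nat.eq_zero_or_pos k with hk0 | hk0
  · -- semisimple elements
    by_cases hall : ∀ y ∈ R, y ^ T0 = 1
    · exact fin T0 _ hall (hT0 ▸ hT.t0) (by rw [hk0, pow_zero, one_mul, hT0])
    push Not at hall
    obtain ⟨x, hx, hxne⟩ := hall
    have hx1 : x ≠ -1 := fun e => hxne (by
      rw [e]; exact of_dvd (h2T0 false) (neg_one_pow_torVal hqodd 2 false))
    obtain ⟨e, b, o, R', he, hp', -, ho, hR', hc, -, hy'⟩ := hstable.step hqodd hinj hx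
    have hc1 : 1 ≤ R.count x := Multiset.count_pos.2 hx
    rw [ho hx1, hcard] at hc
    have hec : 2 * e ≤ 2 * e * R.count x := Nat.le_mul_of_pos_right _ hc1
    have he12 : e ≠ 1 ∧ e ≠ 2 := by
      constructor <;> rintro rfl <;> apply hxne
      · exact of_dvd ((torVal_one_dvd q hqodd.pos b).trans (h2T0 false)) hp'
      · exact of_dvd (h2T0 b) hp'
    rcases (show e = 3 ∨ e = 4 by omega) with rfl | rfl
    · obtain ⟨b', hb'⟩ := hR'.le_three hqodd hinj (by omega)
      refine fin (Nat.lcm (torVal q (3, b)) (torVal q (1, b'))) _ (fun y hy => ?_) (hT.t3 b) ?_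
      · rcases hy' y hy with h3 | h3
        · exact of_dvd (Nat.dvd_lcm_left _ _) (same h3 hp')
        · exact of_dvd (Nat.dvd_lcm_right _ _) (hb' y h3)
      · rw [hk0, pow_zero, one_mul]
        refine Nat.lcm_dvd (Nat.dvd_lcm_left _ _) ?_
        by_cases hbb : b' = b
        · exact hbb ▸ (torVal_three_dvd q hqodd.pos b').trans (Nat.dvd_lcm_left _ _)
        · rw [show b' = !b by cases b <;> cases b' <;> simp_all]
          exact Nat.dvd_lcm_right _ _
    · -- all eigenvalues have the same order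
      have hR'0 : R' = 0 := Multiset.card_eq_zero.1 (by omega)
      have hsame : ∀ y ∈ R, orderOf y = orderOf x := fun y hy =>
        (hy' y hy).resolve_right (by rw [hR'0]; exact Multiset.notMem_zero y)
      set r := orderOf x with hr
      have hgr : g ^ r = 1 := by
        have h := hroots r fun y hy => by rw [← hsame y hy]; exact pow_orderOf_eq_one y
        rwa [hk0, pow_zero, one_mul] at h
      have hxm : x ^ m = 1 := by
        obtain ⟨v, hv, hv0⟩ := Submodule.exists_mem_ne_zero_of_ne_bot (p := f.eigenspace x) fun e0 => by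
          rw [hcount, e0, finrank_bot] at hc1; omega
        have h := eigen_pow hv m
        rw [hfm, Module.End.one_apply] at h
        exact smul_left_injective _ hv0 (show x ^ m • v = (1 : AlgebraicClosure F) • v by rw [← h, one_smul])
      have hrm : r ∣ m := orderOf_dvd_of_pow_eq_one hxm
      have hr1 : 1 < r := by
        have h0 : r ≠ 0 := fun e0 => hm0 (Nat.eq_zero_of_zero_dvd (e0 ▸ hrm))
        have h1 : r ≠ 1 := fun e1 => (hstable.ne x hx).2 (orderOf_eq_one_iff.1 (hr ▸ e1))
        omega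
      have hreg : ∀ v : Fin 8 → F, Q v = 1 → ∀ i, (g ^ i).1 v = v → r ∣ i := by
        intro v hv i hi
        by_contra hni
        have hsurj : Function.Surjective (f ^ i - 1 : Module.End (AlgebraicClosure F) _) := fun w =>
          hspan (LinearMap.range (f ^ i - 1)) (fun μ hμ y hy => ⟨(μ ^ i - 1)⁻¹ • y, by
            have hne : μ ^ i - 1 ≠ 0 := fun e0 => hni (hsame μ hμ ▸ orderOf_dvd_of_pow_eq_one (sub_eq_zero.1 e0))
            rw [map_smul, LinearMap.sub_apply, Module.End.one_apply, eigen_pow hy]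
            conv_lhs => arg 2; arg 2; rw [← one_smul (AlgebraicClosure F) y]
            rw [← sub_smul, smul_smul, inv_mul_cancel₀ hne, one_smul]⟩) w
        have hker := LinearMap.injective_iff_surjective.2 hsurj
        have hvφ : (f ^ i - 1 : Module.End (AlgebraicClosure F) _) (φ ∘ v) = 0 := by
          rw [LinearMap.sub_apply, Module.End.one_apply, hf, ← lin_pow, ← Matrix.map_pow _, lin_apply, hSdef, hk0,
            pow_zero, pow_one, sub_eq_zero]
          funext j
          rw [← RingHom.map_mulVec, hAv, hi]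
          rfl
        have hv0 : v = 0 := funext fun j => φ.injective (by
          rw [Pi.zero_apply, map_zero]
          exact congrFun (hker (hvφ.trans (map_zero _).symm)) j)
        rw [hv0, map_zero] at hv
        exact zero_ne_one hv
      obtain ⟨j, hj, hev⟩ := even_of_semiregular hg hr1 hgr hreg
      have hq1 : 1 ≤ q ^ 4 := Nat.one_le_pow _ _ hqodd.pos
      obtain ⟨Hh, hHh⟩ : ∃ Hh, q ^ 4 - 1 = 2 * Hh := even_iff_two_dvd.1 (torVal_even hqodd 4 false)
      have hcnt : cnt Q 1 = q ^ 3 * (2 * Hh) := by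
        have h := hs.cnt_one
        rw [← hq] at h
        rw [← hHh]
        refine Nat.eq_of_mul_eq_mul_left (hqodd.pos) ?_
        zify [hq1]
        rw [h]
        ring
      have hje : Even j := by
        rw [← hj, hcnt, Nat.even_add] at hev
        exact hev.1 ((Nat.even_mul).2 (Or.inr (even_two_mul _)))
      obtain ⟨j', rfl⟩ := hje
      have hrdvd : r ∣ q ^ 3 * Hh := ⟨j', by
        rw [hcnt] at hj
        refine Nat.eq_of_mul_eq_mul_left (show 0 < 2 by norm_num) ?_
        linear_combination hj⟩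
      have hcop : Nat.Coprime r (q ^ 3) := by
        obtain ⟨n, -, hqn⟩ := FiniteField.card F p
        rw [hq, hqn, ← pow_mul]
        exact Nat.Coprime.pow_right _ ((Nat.Prime.coprime_iff_not_dvd hp).2 fun h => hm (h.trans hrm)).symm
      have hrH : r ∣ Hh := hcop.dvd_of_dvd_mul_left hrdvd
      refine hT.dvd hT.t0 ((orderOf_dvd_of_pow_eq_one hgr).trans (hrH.trans ?_))
      have h1 := Nat.gcd_mul_lcm (q ^ 2 + 1) (q ^ 2 - 1)
      have hsq : (q ^ 2 + 1) * (q ^ 2 - 1) = 2 * Hh := by rw [← hHh, ← Nat.sq_sub_sq, one_pow, ← pow_mul]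
      have hgd : Nat.gcd (q ^ 2 + 1) (q ^ 2 - 1) ∣ 2 := by
        have h := Nat.dvd_sub (Nat.gcd_dvd_left (q ^ 2 + 1) (q ^ 2 - 1)) (Nat.gcd_dvd_right _ _)
        have h1' : 1 ≤ q ^ 2 := Nat.one_le_pow _ _ hqodd.pos
        rwa [show q ^ 2 + 1 - (q ^ 2 - 1) = 2 by omega] at h
      rcases (Nat.dvd_prime Nat.prime_two).1 hgd with hg1 | hg1 <;> rw [hg1, hsq] at h1
      · rw [one_mul] at h1; rw [h1]; exact dvd_mul_left _ _
      · rw [Nat.eq_of_mul_eq_mul_left two_pos h1]
  -- elements with unipotent part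
  set u := lin ((A ^ m).map φ) with hu
  have hupow : ∀ i, u ^ i = lin ((A ^ (m * i)).map φ) := fun i => by
    rw [hu, ← lin_pow, ← Matrix.map_pow _, ← pow_mul]
  have hu1 : u ^ p ^ k = 1 := by
    rw [hupow, (hAi _).2 (by rw [mul_comm, ← hord, pow_orderOf_eq_one]), Matrix.map_one _ φ.map_zero φ.map_one, lin_one]
  have hnil : (u - 1) ^ p ^ k = 0 := (pow_eq_one_iff_nilp p u k).1 hu1
  have hne : (u - 1) ^ p ^ (k - 1) ≠ 0 := fun h0 => by
    rw [← pow_eq_one_iff_nilp p, hupow, ← lin_one] at h0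
    have h1 := lin_injective h0
    rw [← Matrix.map_one _ φ.map_zero φ.map_one] at h1
    have h3 := orderOf_dvd_of_pow_eq_one ((hAi _).1 (Matrix.map_injective φ.injective h1))
    rw [hord, mul_comm m] at h3
    have h4 := Nat.le_of_dvd (Nat.mul_pos (pow_pos hp.pos _) (Nat.pos_of_ne_zero hm0)) h3
    have h5 := Nat.mul_lt_mul_of_pos_right (Nat.pow_lt_pow_right hp.one_lt (show k - 1 < k by omega))
      (Nat.pos_of_ne_zero hm0)
    omega
  have hcomm : Commute f u := by
    show f * u = u * f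
    rw [hf, hu, ← lin_mul, ← lin_mul, ← Matrix.map_mul, ← Matrix.map_mul, hSdef, ← pow_add, ← pow_add, add_comm]
  have hinvE : ∀ μ, ∀ x ∈ f.eigenspace μ, u x ∈ f.eigenspace μ := fun μ x hx => by
    rw [Module.End.mem_eigenspace_iff] at hx ⊢
    rw [← Module.End.mul_apply, hcomm.eq, Module.End.mul_apply, hx, map_smul]
  obtain ⟨μ, hμ, x, hx, hxN⟩ : ∃ μ ∈ R, ∃ x ∈ f.eigenspace μ, ((u - 1) ^ p ^ (k - 1)) x ≠ 0 := by
    by_contra hcon
    push Not at hcon
    exact hne (LinearMap.ext fun y =>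
      hspan (LinearMap.ker ((u - 1) ^ p ^ (k - 1))) (fun μ hμ z hz => LinearMap.mem_ker.2 (hcon μ hμ z hz)) y)
  obtain ⟨c, hc⟩ : ∃ c, R.count μ = c := ⟨_, rfl⟩
  have hN : ∀ z ∈ f.eigenspace μ, (u - 1) z ∈ f.eigenspace μ := fun z hz => by
    rw [LinearMap.sub_apply, Module.End.one_apply]; exact sub_mem (hinvE μ z hz) hz
  have hnilE : ∀ z ∈ f.eigenspace μ, ((u - 1) ^ p ^ k) z = 0 := fun z _ => by rw [hnil]; rfl
  have hdc : p ^ (k - 1) + 1 ≤ c := by
    have h := chain hN hnilE (p ^ (k - 1)) hx hxN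
    rwa [← hcount, hc] at h
  have hpodd : Odd (p ^ (k - 1)) := (hp.odd_of_ne_two (by omega)).pow
  obtain ⟨e, b, o, R', he, hpw, ho1, ho, hR', hcard', hmem', hy'⟩ := hstable.step hqodd hinj hμ
  rw [hc, hcard] at hcard'
  have hneg : μ = -1 → p ^ (k - 1) + 2 ≤ c := by
    intro hμ1
    rcases Nat.even_or_odd c with hev | hod
    swap
    · rw [Nat.odd_iff] at hod hpodd; omega
    have hpk1 : 1 ≤ p ^ (k - 1) := Nat.one_le_pow _ _ hp.pos
    by_contra hlt
    let B : (Fin 8 → AlgebraicClosure F) →ₗ[AlgebraicClosure F] (Fin 8 → AlgebraicClosure F) →ₗ[AlgebraicClosure F]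
        AlgebraicClosure F := Matrix.toLinearMap₂' (AlgebraicClosure F) (G.map φ)
    have hBa : ∀ v w, B v w = v ⬝ᵥ (G.map φ *ᵥ w) := fun v w => Matrix.toLinearMap₂'_apply' _ v w
    have hBinv : ∀ (i : ℕ) v w, B (lin ((A ^ i).map φ) v) (lin ((A ^ i).map φ) w) = B v w := fun i v w => by
      rw [hBa, hBa, lin_apply, lin_apply]
      conv_rhs => rw [← hpres i, Matrix.map_mul, Matrix.map_mul, Matrix.transpose_map, ← Matrix.mulVec_mulVec,
        ← Matrix.mulVec_mulVec, Matrix.dotProduct_mulVec v, Matrix.vecMul_transpose]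
    have hBs : ∀ v w, B v w = B w v := fun v w => by
      rw [hBa, hBa, Matrix.dotProduct_mulVec, dotProduct_comm, ← Matrix.mulVec_transpose, ← Matrix.transpose_map, hGs]
    have hcE : finrank (AlgebraicClosure F) (f.eigenspace μ) = c := by rw [← hcount, hc]
    refine hxN ?_
    rw [show p ^ (k - 1) = c - 1 by omega]
    refine alt_bound B hBs h2K (fun v w => hu ▸ hBinv m v w) (E := f.eigenspace μ) (hinvE μ) hnilE ?_ hcE hev
      (by omega) x hx
    intro z hz hzE
    have hall : ∀ w, B z w = 0 := fun w => by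
      refine LinearMap.mem_ker.1 (hspan (LinearMap.ker (B z)) (fun ν hν y hy => LinearMap.mem_ker.2 ?_) w)
      by_cases hνμ : ν = μ
      · exact hzE y (hνμ ▸ hy)
      have h : B (f z) (f y) = B z y := hBinv (p ^ k) z y
      rw [Module.End.mem_eigenspace_iff.1 hz, Module.End.mem_eigenspace_iff.1 hy] at h
      simp only [map_smul, LinearMap.smul_apply, smul_eq_mul, hμ1] at h
      refine (mul_eq_zero.1 (show (ν + 1) * B z y = 0 by linear_combination -h)).resolve_left fun e0 => hνμ ?_
      rw [hμ1]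
      exact eq_neg_of_add_eq_zero_left e0
    refine Matrix.eq_zero_of_vecMul_eq_zero (M := G.map φ) (v := z) ?_ ?_
    · rw [← RingHom.mapMatrix_apply, ← RingHom.map_det]; exact (map_ne_zero φ).2 hG
    · funext j
      have h := hall (Pi.single j 1)
      rwa [hBa, Matrix.dotProduct_mulVec, dotProduct_single, mul_one] at h
  -- the shape of the unipotent part
  have hc8 : c ≤ 8 := by rw [← hcard, ← hc]; exact Multiset.count_le_card μ R
  have hk12 : k = 1 ∨ (k = 2 ∧ p ^ (k - 1) = p) := by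
    by_cases hk1 : k = 1
    · exact Or.inl hk1
    by_cases hk2 : k = 2
    · exact Or.inr ⟨hk2, by rw [hk2, pow_one]⟩
    exfalso
    have h1 : p ^ 2 ≤ p ^ (k - 1) := Nat.pow_le_pow_right hp.pos (by omega)
    have h3 : 3 ^ 2 ≤ p ^ 2 := Nat.pow_le_pow_left hp3 2
    omega
  have hval : ∀ {X : ℕ}, μ ^ X = 1 → (∀ y ∈ R', y ^ X = 1) → ∀ y ∈ R, y ^ X = 1 := fun hμX hR'X y hy => by
    rcases hy' y hy with h | h
    · exact same h hμX
    · exact hR'X y h
  have pX1 : k = 1 → (∀ y ∈ R, y ^ torVal q (2, false) = 1) → H (orderOf g) := fun hk1 h =>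
    fin _ _ h hT.p1 (by rw [hk1, pow_one]; rfl)
  have pX2 : k = 1 → ∀ b' : Bool, (∀ y ∈ R, y ^ Nat.lcm (q ^ 2 + 1) (torVal q (1, b')) = 1) → H (orderOf g) :=
    fun hk1 b' h => fin _ _ h (hT.p2 b') (by rw [hk1, pow_one])
  have h9 : k = 2 → p = 3 → ∀ b' : Bool, (∀ y ∈ R, y ^ torVal q (1, b') = 1) → H (orderOf g) := by
    intro hk2 hp' b' h
    refine fin _ _ h (hT.p9 hp') ?_
    rw [hk2, hp', show (3 : ℕ) ^ 2 = 9 from rfl]
    refine Nat.mul_dvd_mul_left _ ?_
    cases b' <;> simp only [torVal, pow_one]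
    · exact Nat.dvd_lcm_right _ _
    · exact Nat.dvd_lcm_left _ _
  by_cases hμ1 : μ = -1
  · have hc' := hneg hμ1
    rw [ho1 hμ1, one_mul] at hcard'
    have hμt : ∀ e' b', μ ^ torVal q (e', b') = 1 := fun e' b' => by
      rw [hμ1]; exact neg_one_pow_torVal hqodd e' b'
    rcases hk12 with hk1 | ⟨hk2, hpp⟩
    · have hpk : p ^ (k - 1) = 1 := by rw [hk1, Nat.sub_self, pow_zero]
      obtain ⟨b2, hb2⟩ := hR'.le_five hqodd hinj (by omega)
      cases b2
      · exact pX1 hk1 (hval (hμt _ _) hb2)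
      · exact pX2 hk1 false (hval (of_dvd (Nat.dvd_lcm_left _ _) (hμt 2 true))
          fun y hy => of_dvd (Nat.dvd_lcm_left _ _) (hb2 y hy))
    · rw [hpp] at hc' hpodd
      rcases (show p = 3 ∨ p = 5 by rw [Nat.odd_iff] at hpodd; omega) with hp' | hp'
      · obtain ⟨b1, hb1⟩ := hR'.le_three hqodd hinj (by omega)
        exact h9 hk2 hp' b1 (hval (hμt _ _) hb1)
      · refine fin 2 _ (hval (by rw [hμ1]; exact neg_one_sq) fun y hy => ?_) (hT.p50 hp') ?_
        · exact absurd ((hR'.le_one hqodd hinj (by omega) hy).trans hμ1.symm) (hmem' y hy).2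
        · rw [hk2, hp']; norm_num
  rw [ho hμ1] at hcard'
  have hpk1 : 1 ≤ p ^ (k - 1) := Nat.one_le_pow _ _ hp.pos
  have he2 : e ≤ 2 := by
    by_contra hcon
    have : 2 * 3 * 2 ≤ 2 * e * c := Nat.mul_le_mul (Nat.mul_le_mul_left 2 (by omega)) (by omega)
    omega
  rcases (show e = 1 ∨ e = 2 by omega) with rfl | rfl
  · rcases hk12 with hk1 | ⟨hk2, hpp⟩
    · have hpk : p ^ (k - 1) = 1 := by rw [hk1, Nat.sub_self, pow_zero]
      obtain ⟨b2, hb2⟩ := hR'.le_five hqodd hinj (by omega)
      cases b2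
      · exact pX1 hk1 (hval (of_dvd (torVal_one_dvd q hqodd.pos b) hpw) hb2)
      · exact pX2 hk1 b (hval (of_dvd (Nat.dvd_lcm_right _ _) hpw)
          fun y hy => of_dvd (Nat.dvd_lcm_left _ _) (hb2 y hy))
    · rw [hpp] at hdc
      have hR'0 : R' = 0 := Multiset.card_eq_zero.1 (by omega)
      exact h9 hk2 (by omega) b (hval hpw (by simp [hR'0]))
  · have hc2 : c = 2 := by omega
    have hk1 : k = 1 := by
      rcases hk12 with h | ⟨-, hpp⟩
      · exact h
      · rw [hpp] at hdc; omega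
    have hR'0 : R' = 0 := Multiset.card_eq_zero.1 (by omega)
    cases b
    · exact pX1 hk1 (hval hpw (by simp [hR'0]))
    · exact pX2 hk1 false (hval (of_dvd (Nat.dvd_lcm_left _ _) hpw) (by simp [hR'0]))

end Cfsg.Agent.OddOrth
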