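/-
Comparing element orders of Omega in dimension 2n + 1 with those of the extension of Omega by the module in dimension 2n.
-/
import Cfsg.Agent.Lib.Isospectral.OddOrth.Basic

set_option autoImplicit false
set_option linter.all false

universe u v w

namespace Cfsg.Agent.OddOrth

open QuadraticMap Module Cfsg.Agent.Orth

/-- Regrouping three summands. -/
def assocE (F : Type u) [Field F] (A B C : Type*) [AddCommGroup A] [Module F A] [AddCommGroup B] [Module F B]
    [AddCommGroup C] [Module F C] : (A × (B × C)) ≃ₗ[F] ((A × B) × C) where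
  toFun x := ((x.1, x.2.1), x.2.2)
  map_add' x y := rfl
  map_smul' c x := rfl
  invFun x := (x.1.1, (x.1.2, x.2))
  left_inv x := rfl
  right_inv x := rfl

variable {F : Type u} [Field F] [Fintype F] {V : Type v} [AddCommGroup V] [Module F V] [FiniteDimensional F V]
  {Q : QuadraticForm F V} (p : ℕ) [Fact p.Prime] [CharP F p]

include p

theorem exists_parts (g : oGroup Q) : ∃ k m, ¬ p ∣ m ∧ orderOf g = p ^ k * m := by
  haveI := finite_oGroup Q
  exact Nat.exists_eq_pow_mul_and_not_dvd (orderOf_pos g).ne' p (Fact.out : p.Prime).ne_one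

theorem odd_char (h2 : (2 : F) ≠ 0) : Odd p :=
  (Fact.out : p.Prime).odd_of_ne_two fun e => h2 (by
    have h : ((p : ℕ) : F) = 0 := CharP.cast_eq_zero F p
    rw [e] at h
    exact_mod_cast h)

/-- The unipotent and the semisimple part along the fixed space of the latter. -/
theorem decomp (h2 : (2 : F) ≠ 0) (hQ : (polarBilin Q).Nondegenerate) (hn : 2 ≤ finrank F V) {g : oGroup Q}
    (hg : g ∈ omg Q) {k m : ℕ} (hm : ¬ p ∣ m) (hord : orderOf g = p ^ k * m) :
    ∃ (hU : NonDeg Q (fix (g ^ p ^ k))) (a : oGroup (restr Q (perp Q (fix (g ^ p ^ k)))))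
      (b : oGroup (restr Q (fix (g ^ p ^ k)))),
      join hU (a, b) = g ∧ b ^ p ^ k = 1 ∧ chi h2 (restr_perp_nondeg hQ hU) a = 1 ∧ chi h2 (nondeg_restr hU) b = 1 ∧
      (∀ x, (a ^ p ^ k).1 x = x → x = 0) ∧ Even (finrank F (perp Q (fix (g ^ p ^ k)))) ∧ orderOf (a ^ p ^ k) = m := by
  have hp : p.Prime := Fact.out
  have hmF : (m : F) ≠ 0 := fun e => hm ((CharP.cast_eq_zero_iff F p m).1 e)
  have hsm : (g ^ p ^ k) ^ m = 1 := by rw [← pow_mul, ← hord, pow_orderOf_eq_one]
  have hU := fix_nondeg hQ hmF hsm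
  obtain ⟨⟨a, b⟩, hab⟩ := exists_join hU (g := g) fun x hx => fix_map hx
  have hs : join hU (a ^ p ^ k, b ^ p ^ k) = g ^ p ^ k := by rw [← Prod.pow_mk, map_pow, hab]
  have hb : b ^ p ^ k = 1 := Subtype.ext (LinearEquiv.ext fun y => Subtype.ext (by
    have h := join_apply_right hU (a ^ p ^ k, b ^ p ^ k) y
    rw [hs, mem_fix.1 y.2] at h
    exact h.symm))
  have hcb : chi h2 (nondeg_restr hU) b = 1 := hom_eq_one_of_odd _ (odd_char p h2).pow hb
  have hca : chi h2 (restr_perp_nondeg hQ hU) a = 1 := by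
    have h := (chi_join h2 hQ hn hU a b).1 (by rw [hab]; exact hg)
    rwa [hcb, mul_one] at h
  have hfree : ∀ x, (a ^ p ^ k).1 x = x → x = 0 := fun x hx => by
    have h := join_apply_left hU (a ^ p ^ k, b ^ p ^ k) x
    rw [hs] at h
    simp only [hx] at h
    have hx' : (x : V) ∈ fix (g ^ p ^ k) := mem_fix.2 h
    exact Subtype.ext (hU _ hx' fun c hc => by rw [b_comm]; exact x.2 c hc)
  refine ⟨hU, a, b, hab, hb, hca, hcb, hfree, ?_, ?_⟩
  · exact even_of_no_fix h2 (restr_perp_nondeg hQ hU)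
      (det_of_chi h2 _ (by rw [map_pow, hca, one_pow])) hfree
  · have h1 : orderOf (g ^ p ^ k) = m := by
      rw [orderOf_pow_of_dvd (pow_ne_zero _ hp.pos.ne') (hord ▸ dvd_mul_right _ _), hord,
        Nat.mul_div_cancel_left _ (pow_pos hp.pos _)]
    rw [← hs, hb, orderOf_join, orderOf_one, Nat.lcm_one_right] at h1
    exact h1

/-- Every extension element has order dividing that of some element in one more dimension. -/
theorem exists_odd (h2 : (2 : F) ≠ 0) (hQ : (polarBilin Q).Nondegenerate) (hn : 2 ≤ finrank F V)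
    (hev : Even (finrank F V)) {g : oGroup Q} (hg : g ∈ omg Q) (v : V) :
    ∃ y ∈ omg (Q.prod (sq1 F)), g ^ orderOf y = 1 ∧ ∑ j ∈ Finset.range (orderOf y), (g ^ j).1 v = 0 := by
  have hp : p.Prime := Fact.out
  have hW : 2 ≤ finrank F V + finrank F F := by omega
  by_cases hsum : ∑ j ∈ Finset.range (orderOf g), (g ^ j).1 v = 0
  · refine ⟨oProd Q (sq1 F) (g, 1), (oProd_mem h2 hQ (sq1_nondeg h2) hW).2 (by
      rw [chi_eq_one_of_mem h2 hQ hg, map_one, one_mul]), ?_⟩
    rw [orderOf_oProd, orderOf_one, Nat.lcm_one_right]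
    exact ⟨pow_orderOf_eq_one g, hsum⟩
  obtain ⟨k, m, hm, hord⟩ := exists_parts p g
  obtain ⟨hU, a, b, hab, hb, hca, hcb, hfree, hevp, horda⟩ := decomp p h2 hQ hn hg hm hord
  have hbig : p ^ k ≤ finrank F (fix (g ^ p ^ k)) := by
    have hS : ∑ t ∈ Finset.range m, ((g ^ p ^ k) ^ t).1 v ∈ (fix (g ^ p ^ k)) := by
      rw [mem_fix, map_sum]
      have h1 := Finset.sum_range_succ' (fun t => ((g ^ p ^ k) ^ t).1 v) m
      rw [Finset.sum_range_succ] at h1
      simp only [← pow_mul, ← hord, pow_orderOf_eq_one, mul_zero, pow_zero] at h1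
      refine (Finset.sum_congr rfl fun t _ => ?_).trans
        ((add_right_cancel h1).symm.trans (Finset.sum_congr rfl fun t _ => by rw [← pow_mul]))
      rw [← pow_mul, Nat.mul_succ, add_comm, pow_add]
      rfl
    obtain ⟨S, hSdef⟩ : ∃ S : (fix (g ^ p ^ k)), (S : V) = ∑ t ∈ Finset.range m, ((g ^ p ^ k) ^ t).1 v := ⟨⟨_, hS⟩, rfl⟩
    by_contra hlt
    apply hsum
    have h0 : ∑ r ∈ Finset.range (p ^ k), (toEnd (restr Q (fix (g ^ p ^ k))) b) ^ r = 0 := by
      rw [geom_char p]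
      refine pow_eq_zero_of_le (by omega) (pow_finrank (b := p ^ k) ?_)
      rw [← pow_eq_one_iff_nilp p, ← map_pow, hb, map_one]
    have h1 : ∀ r, ((b ^ r).1 S : V) = (g ^ r).1 (S : V) := fun r => by
      have h := join_apply_right hU ((a, b) ^ r) S
      rw [map_pow, hab] at h
      exact h.symm
    have h3 : ∑ j ∈ Finset.range (orderOf g), (g ^ j).1 v
        = ((∑ r ∈ Finset.range (p ^ k), (toEnd (restr Q (fix (g ^ p ^ k))) b) ^ r) S : (fix (g ^ p ^ k))) := by
      have e := congrArg (fun T : End F V => T v) (sum_range_mul (toEnd Q g) (p ^ k) m)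
      simp only [LinearMap.sum_apply, Module.End.mul_apply] at e
      rw [hord, Finset.sum_congr rfl fun j _ => pow_apply g j v, e, LinearMap.sum_apply, Submodule.coe_sum]
      refine Finset.sum_congr rfl fun r _ => ?_
      rw [← pow_apply b, h1, hSdef, ← pow_apply g]
      congr 1
      exact Finset.sum_congr rfl fun t _ => by rw [pow_apply (g ^ p ^ k), map_pow]
    rw [h3, h0]
    rfl
  have hodd : Odd (finrank F (fix (g ^ p ^ k)) + 1) := by
    rw [finrank_split hU] at hev
    exact ((Nat.even_add.1 hev).1 hevp).add_one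
  obtain ⟨u, hu, hcu, -⟩ := exists_regular_order h2 p (nondeg_prod (nondeg_restr hU) (sq1_nondeg h2)) hodd
    (by rw [Module.finrank_prod, Module.finrank_self])
  let E : (perp Q (fix (g ^ p ^ k)) × ((fix (g ^ p ^ k)) × F)) ≃ₗ[F] V × F :=
    (assocE F (perp Q (fix (g ^ p ^ k))) (fix (g ^ p ^ k)) F).trans ((sumEquiv hU).prodCongr (LinearEquiv.refl F F))
  have hE : ∀ x, (Q.prod (sq1 F)) (E x) = ((restr Q (perp Q (fix (g ^ p ^ k)))).prod ((restr Q (fix (g ^ p ^ k))).prod (sq1 F))) x := fun x => by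
    show (Q.prod (sq1 F)) (sumEquiv hU (x.1, x.2.1), x.2.2) = _
    rw [QuadraticMap.prod_apply, sumEquiv_spec, QuadraticMap.prod_apply, QuadraticMap.prod_apply,
      QuadraticMap.prod_apply, add_assoc]
  obtain ⟨y, hy⟩ : ∃ y, y = oCongr E hE (oProd _ _ (a ^ p ^ k, u)) := ⟨_, rfl⟩
  have hyo : orderOf y = Nat.lcm m (p ^ Nat.clog p (finrank F (fix (g ^ p ^ k)) + 1)) := by
    rw [hy, MulEquiv.orderOf_eq, orderOf_oProd, horda, hu]
  refine ⟨y, ?_, ?_⟩
  · rw [hy, omg_congr_iff, oProd_mem h2 (restr_perp_nondeg hQ hU) (nondeg_prod (nondeg_restr hU) (sq1_nondeg h2))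
      (by rw [← Module.finrank_prod, LinearEquiv.finrank_eq E, Module.finrank_prod, Module.finrank_self]; omega),
      map_pow, hca, one_pow, one_mul]
    exact hcu
  have hj : k + 1 ≤ Nat.clog p (finrank F (fix (g ^ p ^ k)) + 1) := by
    by_contra hc
    have h1 := (Nat.clog_le_iff_le_pow hp.one_lt).1 (show Nat.clog p (finrank F (fix (g ^ p ^ k)) + 1) ≤ k by omega)
    omega
  have hdvd : p * orderOf g ∣ orderOf y := by
    rw [hord, ← mul_assoc, ← pow_succ', hyo]
    refine Nat.Coprime.mul_dvd_of_dvd_of_dvd (Nat.Coprime.pow_left _ ((Nat.Prime.coprime_iff_not_dvd hp).2 hm)) ?_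
      (Nat.dvd_lcm_left _ _)
    exact (pow_dvd_pow p hj).trans (Nat.dvd_lcm_right _ _)
  obtain ⟨t, ht⟩ := hdvd
  refine ⟨by rw [ht, mul_comm p, mul_assoc, pow_mul, pow_orderOf_eq_one, one_pow], ?_⟩
  rw [ht, mul_comm p, mul_assoc, sum_pow_mul g (pow_orderOf_eq_one g), Nat.cast_mul, CharP.cast_eq_zero F p, zero_mul,
    zero_smul]

variable {A : Type v} [AddCommGroup A] [Module F A] [FiniteDimensional F A] {B : Type w} [AddCommGroup B] [Module F B]
  [FiniteDimensional F B] {R : QuadraticForm F A} {X : QuadraticForm F B}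

/-- A regular unipotent next to an element, possibly with a vector. -/
theorem hit_regular (h2 : (2 : F) ≠ 0) (hR : (polarBilin R).Nondegenerate) (hX : (polarBilin X).Nondegenerate)
    {a : oGroup R} (ha : chi h2 hR a = 1) {d : ℕ} (hd : Odd d) (hB : finrank F B = d + 1) :
    Hit (R.prod X) (Nat.lcm (orderOf a) (p ^ Nat.clog p d)) ∧
      ∀ j, p ^ j = d → ¬ p ^ (j + 1) ∣ orderOf a → Hit (R.prod X) (p * Nat.lcm (orderOf a) (p ^ j)) := by
  have hp : p.Prime := Fact.out
  haveI : Nontrivial B := Module.nontrivial_of_finrank_pos (R := F) (by omega)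
  obtain ⟨w, hw⟩ := exists_ne_zero_value hX
  have hP : NonDeg X (Submodule.span F {w}) := by
    intro x hx h
    obtain ⟨t, rfl⟩ := Submodule.mem_span_singleton.1 hx
    have h1 := h w (Submodule.mem_span_singleton_self w)
    rw [b_smul_left, b_self] at h1
    rw [(mul_eq_zero.1 h1).resolve_right (mul_ne_zero h2 hw), zero_smul]
  have hPd : finrank F (perp X (Submodule.span F {w})) = d := by
    have h := finrank_split hP
    rw [finrank_span_singleton (fun h0 => hw (by rw [h0, map_zero])), hB] at h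
    omega
  obtain ⟨u, hu, hcu, hN⟩ := exists_regular_order h2 p (restr_perp_nondeg hX hP) hd hPd
  obtain ⟨g, hgdef⟩ : ∃ g, g = oProd R X (a, join hP (u, 1)) := ⟨_, rfl⟩
  have hcj : chi h2 hX (join hP (u, 1)) = 1 :=
    chi_eq_one_of_mem h2 hX ((chi_join h2 hX (by have := hd.pos; omega) hP u 1).2 (by rw [hcu, map_one, one_mul]))
  have hg : g ∈ omg (R.prod X) := by
    rw [hgdef, oProd_mem h2 hR hX (by have := hd.pos; omega), ha, hcj, one_mul]
  have hgo : orderOf g = Nat.lcm (orderOf a) (p ^ Nat.clog p d) := by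
    rw [hgdef, orderOf_oProd, orderOf_join, hu, orderOf_one, Nat.lcm_one_right]
  refine ⟨hgo ▸ Hit.of_orderOf hg, fun j hj hna => ?_⟩
  have hclog : Nat.clog p d = j := by rw [← hj, Nat.clog_pow _ _ hp.one_lt]
  rw [hclog] at hgo hu
  obtain ⟨x, hx⟩ : ∃ x, ((toEnd _ u - 1) ^ (d - 1)) x ≠ 0 := not_forall.1 fun e => hN (LinearMap.ext e)
  obtain ⟨t, ht⟩ := Nat.dvd_lcm_right (orderOf a) (p ^ j)
  have htp : ¬ p ∣ t := fun hdvd => by
    have h1 : p ^ (j + 1) ∣ Nat.lcm (orderOf a) (p ^ j) := by rw [ht, pow_succ]; exact Nat.mul_dvd_mul_left _ hdvd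
    haveI := finite_oGroup R
    obtain ⟨e, r, hr, he⟩ := Nat.exists_eq_pow_mul_and_not_dvd (orderOf_pos a).ne' p hp.ne_one
    have hle : e ≤ j := by
      by_contra hc
      exact hna (he ▸ (pow_dvd_pow p (show j + 1 ≤ e by omega)).mul_right r)
    have h2' : p ^ (j + 1) ∣ p ^ j * r := h1.trans (Nat.lcm_dvd (he ▸ Nat.mul_dvd_mul_right (pow_dvd_pow p hle) r)
      (dvd_mul_right _ _))
    rw [pow_succ] at h2'
    exact hr (Nat.dvd_of_mul_dvd_mul_left (pow_pos hp.pos _) h2')
  rw [← hgo]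
  refine Hit.of_sum p hg (x := (0, (x : B))) ?_
  have hpow : ∀ i, (g ^ i).1 ((0 : A), (x : B)) = ((0 : A), ((u ^ i).1 x : B)) := fun i => by
    rw [hgdef, ← map_pow, Prod.pow_mk, oProd_apply, map_zero, ← map_pow, Prod.pow_mk, one_pow, join_apply_left]
  rw [hgo, ht, Finset.sum_congr rfl fun i _ => hpow i]
  intro h0
  have h1 := congrArg Prod.snd h0
  rw [Prod.snd_sum, Prod.snd_zero, ← Submodule.coe_sum, Submodule.coe_eq_zero,
    sum_pow_mul u (by rw [← hu, pow_orderOf_eq_one]), smul_eq_zero] at h1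
  rcases h1 with h1 | h1
  · exact htp ((CharP.cast_eq_zero_iff F p t).1 h1)
  · refine hx ?_
    rw [← hj, ← geom_char p, LinearMap.sum_apply, ← Finset.sum_congr rfl fun i _ => pow_apply u i x]
    exact h1

/-- Elements fixing the added vector come from the space. -/
theorem exists_sub (h2 : (2 : F) ≠ 0) {z : oGroup (Q.prod (sq1 F))} (hz : z.1 (0, 1) = (0, 1)) :
    ∃ z0 : oGroup Q, oProd Q (sq1 F) (z0, 1) = z := by
  have hsnd : ∀ x : V, (z.1 (x, 0)).2 = 0 := fun x => by
    have h := b_map z.2 (x, 0) (0, 1)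
    rw [hz, polar_prod, polar_prod, b_zero_right, b_zero_right, zero_add, zero_add, polar_sq1, polar_sq1, mul_one,
      zero_mul, mul_zero] at h
    exact (mul_eq_zero.1 h).resolve_left h2
  let f : V →ₗ[F] V := (LinearMap.fst F V F).comp (z.1.toLinearMap.comp (LinearMap.inl F V F))
  have hf : ∀ x, z.1 (x, 0) = (f x, 0) := fun x => Prod.ext rfl (hsnd x)
  have hinj : Function.Injective f := fun x y e => by
    have := z.1.injective (show z.1 (x, 0) = z.1 (y, 0) by rw [hf, hf, e])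
    exact congrArg Prod.fst this
  refine ⟨⟨LinearEquiv.ofBijective f ⟨hinj, LinearMap.injective_iff_surjective.1 hinj⟩, fun x => ?_⟩,
    Subtype.ext (LinearEquiv.ext fun x => ?_)⟩
  · have h := z.2 (x, 0)
    rw [hf, QuadraticMap.prod_apply, QuadraticMap.prod_apply, map_zero, add_zero, add_zero] at h
    exact h
  · obtain ⟨x, c⟩ := x
    rw [oProd_apply]
    have e : ((x, c) : V × F) = (x, 0) + c • (0, 1) := by simp
    rw [e, map_add, map_smul, hz, hf]
    simp
    rfl

set_option maxHeartbeats 1000000 in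
/-- The case where the semisimple part fixes the added vector and more. -/
theorem hit_of_fixed (h2 : (2 : F) ≠ 0) (hQ : (polarBilin Q).Nondegenerate) (hn : 2 ≤ finrank F V)
    (hev : Even (finrank F V)) {y : oGroup (Q.prod (sq1 F))} (hy : y ∈ omg (Q.prod (sq1 F))) {k m : ℕ}
    (hm : ¬ p ∣ m) (hord : orderOf y = p ^ k * m) (he : ((0, 1) : V × F) ∈ fix (y ^ p ^ k))
    (hdim : 3 ≤ finrank F (fix (y ^ p ^ k))) : Hit Q (orderOf y) := by
  have hp : p.Prime := Fact.out
  have hW := nondeg_prod hQ (sq1_nondeg (F := F) h2)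
  have hWd : finrank F (V × F) = finrank F V + 1 := by rw [Module.finrank_prod, Module.finrank_self]
  obtain ⟨hU, a, b, hab, hb, hca, hcb, hfree, hevp, -⟩ := decomp p h2 hW (by omega) hy hm hord
  obtain ⟨d, hd, hdU⟩ : ∃ d, Odd d ∧ finrank F (fix (y ^ p ^ k)) = d + 2 := by
    refine ⟨finrank F (fix (y ^ p ^ k)) - 2, ?_, by omega⟩
    have h := finrank_split hU
    rw [hWd] at h
    have hodd : Odd (finrank F (perp (Q.prod (sq1 F)) (fix (y ^ p ^ k))) + finrank F (fix (y ^ p ^ k))) := h ▸ hev.add_one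
    rw [Nat.odd_add] at hodd
    have hUo : ¬ Even (finrank F (fix (y ^ p ^ k))) := fun hE => Nat.not_odd_iff_even.2 hevp (hodd.2 hE)
    rw [Nat.not_even_iff_odd, Nat.odd_iff] at hUo
    rw [Nat.odd_iff]
    omega
  have hz : (join hU (a, 1)).1 ((0, 1) : V × F) = (0, 1) := by
    have h := join_apply_right hU (a, 1) ⟨_, he⟩
    exact h
  obtain ⟨z0, hz0⟩ := exists_sub p h2 hz
  let U0 : Submodule F V := (fix (y ^ p ^ k)).comap (LinearMap.inl F V F)
  have hU0m : ∀ x, x ∈ U0 ↔ ((x, 0) : V × F) ∈ (fix (y ^ p ^ k)) := fun x => Iff.rfl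
  have hmem : ∀ x : V × F, x ∈ (fix (y ^ p ^ k)) → x.1 ∈ U0 := fun x hx => by
    rw [hU0m, show ((x.1, 0) : V × F) = x - x.2 • (0, 1) by ext <;> simp]
    exact sub_mem hx ((fix (y ^ p ^ k)).smul_mem _ he)
  have hU0 : NonDeg Q U0 := fun x hx h => by
    have h1 := hU _ ((hU0m x).1 hx) fun c hc => by
      rw [polar_prod, b_zero_left, add_zero]; exact h _ (hmem c hc)
    exact congrArg Prod.fst h1
  have hU0d : finrank F U0 = d + 1 := by
    let E : (U0 × F) ≃ₗ[F] (fix (y ^ p ^ k)) :=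
      { toFun := fun x => ⟨((x.1 : V), x.2), by
          rw [show (((x.1 : V), x.2) : V × F) = ((x.1 : V), 0) + x.2 • (0, 1) by ext <;> simp]
          exact add_mem x.1.2 ((fix (y ^ p ^ k)).smul_mem _ he)⟩
        map_add' := fun x z => rfl
        map_smul' := fun c x => rfl
        invFun := fun x => (⟨(x : V × F).1, hmem _ x.2⟩, (x : V × F).2)
        left_inv := fun x => rfl
        right_inv := fun x => rfl }
    have h := E.finrank_eq
    rw [Module.finrank_prod, Module.finrank_self] at h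
    omega
  have hfix : ∀ x ∈ U0, z0.1 x = x := fun x hx => by
    have h := join_apply_right hU (a, 1) ⟨_, (hU0m x).1 hx⟩
    rw [← hz0, oProd_apply] at h
    exact congrArg Prod.fst h
  obtain ⟨⟨a0, b0⟩, hab0⟩ := exists_join hU0 (g := z0) fun x hx => by rw [hfix x hx]; exact hx
  have hb0 : b0 = 1 := Subtype.ext (LinearEquiv.ext fun x => Subtype.ext (by
    have h := join_apply_right hU0 (a0, b0) x
    rw [hab0, hfix _ x.2] at h
    exact h.symm))
  subst hb0
  have hzo : orderOf a0 = orderOf a := by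
    have h := congrArg orderOf hz0
    rw [orderOf_oProd, orderOf_join, ← hab0, orderOf_join] at h
    simpa using h
  have hca0 : chi h2 (restr_perp_nondeg hQ hU0) a0 = 1 := by
    have hzm : join hU (a, 1) ∈ omg (Q.prod (sq1 F)) :=
      (chi_join h2 hW (by omega) hU a 1).2 (by rw [hca, map_one, one_mul])
    rw [← hz0, oProd_mem h2 hQ (sq1_nondeg h2) (by omega), map_one, mul_one, ← hab0] at hzm
    have h := (chi_join h2 hQ hn hU0 a0 1).1 ((mem_omg_iff h2 hQ hn).2 hzm)
    rwa [map_one, mul_one] at h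
  obtain ⟨h1, h3⟩ := hit_regular p h2 (restr_perp_nondeg hQ hU0) (nondeg_restr hU0) hca0 hd hU0d
  rw [hzo] at h1 h3
  refine Hit.congr (sumEquiv hU0) (sumEquiv_spec hU0) ?_
  have hyo : orderOf y ∣ Nat.lcm (orderOf a) (p ^ Nat.clog p (d + 2)) := by
    refine (congrArg orderOf hab).symm.dvd.trans ?_
    rw [orderOf_join]
    refine Nat.lcm_dvd (Nat.dvd_lcm_left _ _) (dvd_trans (orderOf_dvd_of_pow_eq_one ?_) (Nat.dvd_lcm_right _ _))
    apply toEnd_injective
    rw [map_pow, map_one]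
    exact pow_eq_one_of_finrank_le p (k := k) (by rw [← map_pow, hb, map_one])
      (hdU ▸ Nat.le_pow_clog hp.one_lt _)
  obtain ⟨E, hE⟩ : ∃ E, Nat.clog p (d + 2) = E := ⟨_, rfl⟩
  obtain ⟨j, hj⟩ : ∃ j, Nat.clog p d = j := ⟨_, rfl⟩
  rw [hE] at hyo
  rw [hj] at h1
  by_cases hc : E ≤ j ∨ p ^ E ∣ orderOf a
  · refine h1.dvd (hyo.trans (Nat.lcm_dvd (Nat.dvd_lcm_left _ _) ?_))
    rcases hc with hc | hc
    · exact (pow_dvd_pow p hc).trans (Nat.dvd_lcm_right _ _)
    · exact hc.trans (Nat.dvd_lcm_left _ _)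
  push Not at hc
  have hdj : d ≤ p ^ j := (Nat.clog_le_iff_le_pow hp.one_lt).1 hj.le
  have hlt : ¬ d + 2 ≤ p ^ j := fun h => by
    have := (Nat.clog_le_iff_le_pow hp.one_lt).2 h
    omega
  have hpj : p ^ j = d := by
    have h1' := Nat.odd_iff.1 ((odd_char (F := F) p h2).pow (n := j))
    have h2' := Nat.odd_iff.1 hd
    omega
  have hEj : E = j + 1 := by
    refine le_antisymm ?_ (by omega)
    rw [← hE, Nat.clog_le_iff_le_pow hp.one_lt, pow_succ, hpj]
    have h3' : 3 ≤ p := by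
      have := hp.two_le
      have := Nat.odd_iff.1 (odd_char (F := F) p h2)
      omega
    have h4 : d * 3 ≤ d * p := Nat.mul_le_mul_left _ h3'
    have := hd.pos
    omega
  refine (h3 j hpj (hEj ▸ hc.2)).dvd (hyo.trans (Nat.lcm_dvd ?_ ?_))
  · exact (Nat.dvd_lcm_left _ _).trans (dvd_mul_left _ _)
  · rw [hEj, pow_succ']
    exact Nat.mul_dvd_mul_left _ (Nat.dvd_lcm_right _ _)

/-- Every element order in odd dimension is hit, provided the fixed-point-free ones are. -/
theorem hit_of_odd (h2 : (2 : F) ≠ 0) (hQ : (polarBilin Q).Nondegenerate) (hn : 2 ≤ finrank F V)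
    (hev : Even (finrank F V))
    (hfpf : ∀ (U : Submodule F (V × F)) (a : oGroup (restr (Q.prod (sq1 F)) U)),
      (polarBilin (restr (Q.prod (sq1 F)) U)).Nondegenerate → finrank F U = finrank F V →
      a ∈ omg (restr (Q.prod (sq1 F)) U) → ∀ k m, ¬ p ∣ m → orderOf a = p ^ k * m →
      (∀ x, (a ^ p ^ k).1 x = x → x = 0) → Hit Q (orderOf a))
    {y : oGroup (Q.prod (sq1 F))} (hy : y ∈ omg (Q.prod (sq1 F))) : Hit Q (orderOf y) := by
  have hp : p.Prime := Fact.out
  have hW := nondeg_prod hQ (sq1_nondeg (F := F) h2)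
  have hWd : finrank F (V × F) = finrank F V + 1 := by rw [Module.finrank_prod, Module.finrank_self]
  obtain ⟨k, m, hm, hord⟩ := exists_parts p y
  obtain ⟨hU, a, b, hab, hb, hca, hcb, hfree, hevp, horda⟩ := decomp p h2 hW (by omega) hy hm hord
  have hsplit := finrank_split hU
  rw [hWd] at hsplit
  by_cases hdim : 3 ≤ finrank F (fix (y ^ p ^ k))
  · obtain ⟨u0, hu0⟩ := exists_value (nondeg_restr hU) (by omega) (1 : F)
    have hu0' : (Q.prod (sq1 F)) (u0 : V × F) = 1 := hu0
    have he1 : (Q.prod (sq1 F)) ((0, 1) : V × F) = 1 := by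
      rw [QuadraticMap.prod_apply, map_zero, zero_add, sq1_apply, mul_one]
    obtain ⟨h, -, hmem, hh, -⟩ := exists_step hW full_oGroup (H := (⊥ : Submodule F (V × F))) (u := (u0 : V × F))
      (w := ((0, 1) : V × F))
      (fun hb' => by rw [Submodule.mem_bot] at hb'; rw [hb', map_zero] at hu0'; exact zero_ne_one hu0')
      (fun hb' => by rw [Submodule.mem_bot] at hb'; rw [hb', map_zero] at he1; exact zero_ne_one he1)
      (hu0'.trans he1.symm) (fun c hc => by rw [Submodule.mem_bot] at hc; rw [hc, b_zero_right, b_zero_right])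
    obtain ⟨c, hc⟩ : ∃ c : oGroup (Q.prod (sq1 F)), c = ⟨h, hmem⟩ := ⟨_, rfl⟩
    obtain ⟨y', hy'⟩ : ∃ y', y' = MulAut.conj c y := ⟨_, rfl⟩
    have hord' : orderOf y' = orderOf y := by rw [hy', MulEquiv.orderOf_eq]
    rw [← hord']
    have hpow : y' ^ p ^ k = c * y ^ p ^ k * c⁻¹ := by rw [hy', ← map_pow]; rfl
    let Ec : (fix (y ^ p ^ k)) ≃ₗ[F] fix (y' ^ p ^ k) :=
      c.1.ofSubmodules (fix (y ^ p ^ k)) (fix (y' ^ p ^ k)) (by
        refine le_antisymm ?_ fun x hx => ?_
        · rintro _ ⟨x, hx, rfl⟩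
          rw [mem_fix, hpow]
          show c.1 ((y ^ p ^ k).1 (c.1.symm (c.1 x))) = c.1 x
          rw [LinearEquiv.symm_apply_apply, mem_fix.1 hx]
        · refine ⟨c.1.symm x, ?_, c.1.apply_symm_apply x⟩
          rw [mem_fix, hpow] at hx
          show c.1.symm x ∈ fix (y ^ p ^ k)
          rw [mem_fix]
          apply c.1.injective
          rw [LinearEquiv.apply_symm_apply]
          exact hx)
    refine hit_of_fixed p h2 hQ hn hev (k := k) (m := m) ?_ hm (hord' ▸ hord) ?_ (Ec.finrank_eq ▸ hdim)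
    · rw [hy']; exact (omg_congr_iff (MulAut.conj c) y).2 hy
    · have h0 := (Ec u0).2
      have hval : ((Ec u0 : fix (y' ^ p ^ k)) : V × F) = (0, 1) := by
        show c.1 (u0 : V × F) = _
        rw [hc]; exact hh
      rwa [hval] at h0
  have hU1 : finrank F (fix (y ^ p ^ k)) = 1 := by
    have hev' := Nat.even_iff.1 hev
    have hevp' := Nat.even_iff.1 hevp
    omega
  have hb1 : b = 1 := by
    apply toEnd_injective
    rw [map_one]
    simpa using pow_eq_one_of_finrank_le p (j := 0) (by rw [← map_pow, hb, map_one] : (toEnd _ b) ^ p ^ k = 1)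
      (by simp [hU1])
  have hoa : orderOf y = orderOf a := (congrArg orderOf hab).symm.trans (by
    rw [orderOf_join, hb1, orderOf_one, Nat.lcm_one_right])
  rw [hoa]
  exact hfpf _ a (restr_perp_nondeg hW hU) (by omega)
    ((mem_omg_iff h2 (restr_perp_nondeg hW hU) (by omega)).2 hca) k m hm (hoa ▸ hord) hfree

end Cfsg.Agent.OddOrth
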