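/-
Elements of the extension in dimension eight, minus type, odd characteristic, of the largest orders.
-/
import Cfsg.Agent.Lib.Isospectral.OddOrth.Bound
import Cfsg.Agent.Lib.Isospectral.OddOrth.Transfer

set_option autoImplicit false
set_option linter.all false

universe u v w

namespace Cfsg.Agent.OddOrth

open QuadraticMap Module Cfsg.Agent.Orth

/-- The sign of a torus. -/
def sg (b : Bool) : ℤ := if b then -1 else 1

theorem sg_sq (b : Bool) : sg b * sg b = 1 := by cases b <;> rfl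

variable {F : Type u} [Field F] [Fintype F] (p : ℕ) [Fact p.Prime] [CharP F p] (h2 : (2 : F) ≠ 0)
include p h2

theorem piece (e : ℕ) (he : 1 ≤ e) (b : Bool) : Piece F e (sg b) (torVal (Fintype.card F) (e, b)) := by
  cases b
  · exact torus_plus p h2 e he
  · exact torus_minus p h2 e he

theorem not_dvd_torVal (e : ℕ) (he : 1 ≤ e) (b : Bool) : ¬ p ∣ torVal (Fintype.card F) (e, b) := by
  intro h
  have hp : p.Prime := Fact.out
  obtain ⟨n, -, hqn⟩ := FiniteField.card F p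
  have hq : p ∣ Fintype.card F ^ e := by
    rw [hqn, ← pow_mul]
    exact dvd_pow_self p (Nat.mul_ne_zero n.pos.ne' (by omega))
  have hpos : 1 ≤ Fintype.card F ^ e := Nat.one_le_pow _ _ Fintype.card_pos
  refine hp.one_lt.ne' (Nat.dvd_one.1 ?_)
  cases b <;> simp only [torVal] at h
  · have h1 := Nat.dvd_sub hq h
    rwa [show Fintype.card F ^ e - (Fintype.card F ^ e - 1) = 1 by omega] at h1
  · exact (Nat.dvd_add_right hq).1 h

theorem not_dvd_lcm {x y : ℕ} (hx : ¬ p ∣ x) (hy : ¬ p ∣ y) : ¬ p ∣ Nat.lcm x y := fun h =>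
  ((Fact.out : p.Prime).dvd_mul.1 (h.trans (Nat.lcm_dvd_mul x y))).elim hx hy

variable {a b : F} (hab : ∀ z₁ z₂ : F, z₁ ^ 2 + a * z₁ * z₂ + b * z₂ ^ 2 = 0 → z₁ = 0 ∧ z₂ = 0)
include hab

theorem hit_ext {A : Type v} [AddCommGroup A] [Module F A] [FiniteDimensional F A] {R : QuadraticForm F A} {d e : ℕ}
    {σ τ : ℤ} {n : ℕ} (hR : (polarBilin R).Nondegenerate) (hsR : Sgn R d σ) (hA : finrank F A = 2 * d) {g : oGroup R}
    (hg : chi h2 hR g = 1) (hX : Piece F e τ n) (hde : d + e = 4) (hσ : σ * τ = -1) {j : ℕ}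
    (hj : p ^ j + 1 = 2 * e) (hna : ¬ p ∣ orderOf g) :
    Hit (qMinus F 3 a b) (p * Nat.lcm (orderOf g) (p ^ j)) := by
  obtain ⟨X, hXn, hsX, -⟩ := hX
  have hd : Odd (p ^ j) := (odd_char p h2).pow
  obtain ⟨-, h⟩ := hit_regular p h2 hR hXn hg hd (by rw [Module.finrank_fin_fun, hj])
  obtain ⟨E, hE⟩ := iso_minus hab p h2 (nondeg_prod hR hXn)
    (by rw [Module.finrank_prod, hA, Module.finrank_fin_fun]; omega) (by
      have h := hsR.prod hsX
      rwa [hde, hσ] at h)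
  exact (h j rfl fun hd' => hna ((dvd_pow_self p (Nat.succ_ne_zero j)).trans hd')).congr E hE

theorem hit_pair {d e : ℕ} {σ τ : ℤ} {n m : ℕ} (h : Piece F d σ n) (h' : Piece F e τ m) (hde : d + e = 4)
    (hσ : σ * τ = -1) : Hit (qMinus F 3 a b) (Nat.lcm n m) := by
  obtain ⟨Q, hQ, hs, hg⟩ := h
  obtain ⟨R, hR, hs', hg'⟩ := h'
  obtain ⟨g, hgo, hgt⟩ := hg h2
  obtain ⟨g', hgo', hgt'⟩ := hg' h2
  obtain ⟨E, hE⟩ := iso_minus hab p h2 (nondeg_prod hQ hR)
    (by rw [Module.finrank_prod, Module.finrank_fin_fun, Module.finrank_fin_fun]; omega) (by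
      have h := hs.prod hs'
      rwa [hde, hσ] at h)
  have hmem : oProd Q R (g, g') ∈ omg (Q.prod R) :=
    (oProd_mem h2 hQ hR (by rw [Module.finrank_fin_fun, Module.finrank_fin_fun]; omega)).2 (tw_mul hgt hgt')
  have h1 := (Hit.of_orderOf hmem).congr E hE
  rwa [orderOf_oProd, hgo, hgo'] at h1

theorem hit_pair_ext {d d' e : ℕ} {σ σ' τ : ℤ} {n n' m : ℕ} (h : Piece F d σ n) (h' : Piece F d' σ' n')
    (hX : Piece F e τ m) (hde : d + d' + e = 4) (hσ : σ * σ' * τ = -1) {j : ℕ} (hj : p ^ j + 1 = 2 * e)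
    (hn : ¬ p ∣ n) (hn' : ¬ p ∣ n') : Hit (qMinus F 3 a b) (p * Nat.lcm (Nat.lcm n n') (p ^ j)) := by
  obtain ⟨Q, hQ, hs, hg⟩ := h
  obtain ⟨R, hR, hs', hg'⟩ := h'
  obtain ⟨g, hgo, hgt⟩ := hg h2
  obtain ⟨g', hgo', hgt'⟩ := hg' h2
  have h1 := hit_ext p h2 hab (nondeg_prod hQ hR) (hs.prod hs')
    (by rw [Module.finrank_prod, Module.finrank_fin_fun, Module.finrank_fin_fun]; omega)
    (g := oProd Q R (g, g')) (by rw [chi_oProd h2 hQ hR]; exact tw_mul hgt hgt') hX hde hσ hj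
    (by rw [orderOf_oProd, hgo, hgo']; exact not_dvd_lcm p h2 hn hn')
  rwa [orderOf_oProd, hgo, hgo'] at h1

/-- All the largest orders are hit. -/
theorem targets : Targets (Hit (qMinus F 3 a b)) (Fintype.card F) p := by
  set q := Fintype.card F with hq
  have hp : p.Prime := Fact.out
  have P := piece (F := F) p h2
  have nd := not_dvd_torVal (F := F) p h2
  refine ⟨fun h hd => h.dvd hd, ?_, fun c => ?_, ?_, fun c => ?_, fun hp3 => ?_, fun hp5 => ?_⟩
  · exact hit_pair p h2 hab (P 2 (by norm_num) true) (P 2 (by norm_num) false) rfl rfl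
  · exact hit_pair p h2 hab (P 3 (by norm_num) c) (P 1 le_rfl (!c)) rfl (by cases c <;> rfl)
  · refine (hit_pair_ext p h2 hab (P 2 (by norm_num) false) (P 1 le_rfl true) (P 1 le_rfl false) rfl rfl
      (j := 0) (by rw [pow_zero]) (nd 2 (by norm_num) false) (nd 1 le_rfl true)).dvd ?_
    exact Nat.mul_dvd_mul_left p ((Nat.dvd_lcm_left _ _).trans (Nat.dvd_lcm_left _ _))
  · refine (hit_pair_ext p h2 hab (P 2 (by norm_num) true) (P 1 le_rfl c) (P 1 le_rfl c) rfl
      (by rw [mul_assoc, sg_sq]; rfl) (j := 0) (by rw [pow_zero]) (nd 2 (by norm_num) true) (nd 1 le_rfl c)).dvd ?_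
    exact Nat.mul_dvd_mul_left p (Nat.dvd_lcm_left _ _)
  · have h := hit_pair_ext p h2 hab (P 1 le_rfl true) (P 1 le_rfl false) (P 2 (by norm_num) false) rfl rfl
      (j := 1) (by rw [pow_one, hp3]) (nd 1 le_rfl true) (nd 1 le_rfl false)
    rw [pow_one, Nat.Coprime.lcm_eq_mul ((Nat.Prime.coprime_iff_not_dvd hp).2
      (not_dvd_lcm p h2 (nd 1 le_rfl true) (nd 1 le_rfl false))).symm] at h
    refine h.dvd (dvd_of_eq ?_)
    simp only [torVal, pow_one]
    rw [hp3]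
    ring
  · obtain ⟨c, hc⟩ : ∃ c, 4 ∣ torVal q (1, c) := by
      have h1 : q % 2 = 1 := FiniteField.odd_card_of_char_ne_two (fun h => h2 (by
        haveI := ringChar.of_eq h; exact CharTwo.two_eq_zero))
      by_cases h4 : q % 4 = 1
      · exact ⟨false, by simp only [torVal, pow_one]; omega⟩
      · exact ⟨true, by simp only [torVal, pow_one]; omega⟩
    obtain ⟨Q, hQ, hs, hg⟩ := P 1 le_rfl c
    obtain ⟨g, hgo, hgt⟩ := hg h2
    obtain ⟨t, ht⟩ := hc
    rw [ht] at hgo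
    have ht0 : t ≠ 0 := fun e => nd 1 le_rfl c (by rw [ht, e, mul_zero]; exact dvd_zero p)
    have ho : orderOf (g ^ (2 * t)) = 2 := by
      rw [orderOf_pow_of_dvd (by omega) (hgo ▸ ⟨2, by ring⟩), hgo, show 4 * t = 2 * (2 * t) by ring,
        Nat.mul_div_cancel _ (by omega)]
    have h := hit_ext p h2 hab hQ hs (Module.finrank_fin_fun F) (g := g ^ (2 * t))
      (by rw [map_pow, pow_mul, pow_two, OrthLow.spinVal_sq, one_pow]) (P 3 (by norm_num) (!c)) rfl
      (by cases c <;> rfl) (j := 1) (by rw [pow_one, hp5]) (by rw [ho, hp5]; norm_num)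
    rw [ho, hp5] at h
    exact h.dvd (dvd_of_eq rfl)

end Cfsg.Agent.OddOrth
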