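/-
Element orders of the orthogonal group in dimension nine and of the extension in dimension eight, odd characteristic.
-/
import Cfsg.Agent.Lib.Isospectral.OddOrth.Realize
import Cfsg.Agent.Lib.Orthogonal.POmega

set_option autoImplicit false
set_option linter.all false

universe u v w

namespace Cfsg.Agent.OddOrth

open QuadraticMap Module Cfsg.Agent.Orth

section Similar

variable {F : Type u} [Field F] {V : Type v} [AddCommGroup V] [Module F V] {W : Type w} [AddCommGroup W] [Module F W]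
  {Q : QuadraticForm F V} {R : QuadraticForm F W}

/-- Similar spaces have isomorphic isometry groups. -/
def simEquiv (e : V ≃ₗ[F] W) {c : F} (hc : c ≠ 0) (h : ∀ x, R (e x) = c * Q x) : oGroup Q ≃* oGroup R where
  toFun g := ⟨(e.symm.trans g.1).trans e, fun x => by
    show R (e (g.1 (e.symm x))) = R x
    rw [h, g.2, ← h, e.apply_symm_apply]⟩
  invFun g := ⟨(e.trans g.1).trans e.symm, fun x => mul_left_cancel₀ hc (by
    show c * Q (e.symm (g.1 (e x))) = c * Q x
    rw [← h, ← h, e.apply_symm_apply, g.2])⟩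
  left_inv g := Subtype.ext (LinearEquiv.ext fun x => by
    show e.symm (e (g.1 (e.symm (e x)))) = g.1 x
    simp)
  right_inv g := Subtype.ext (LinearEquiv.ext fun x => by
    show e (e.symm (g.1 (e (e.symm x)))) = g.1 x
    simp)
  map_mul' a b := Subtype.ext (LinearEquiv.ext fun x => by
    show e (a.1 (b.1 (e.symm x))) = e (a.1 (e.symm (e (b.1 (e.symm x)))))
    simp)

/-- The isomorphism on Omega. -/
noncomputable def omgEquiv (e : oGroup Q ≃* oGroup R) : omg Q ≃* omg R :=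
  (e.subgroupMap (omg Q)).trans (MulEquiv.subgroupCongr (by
    ext x
    refine ⟨?_, fun hx => ⟨e.symm x, (omg_congr_iff e.symm x).2 hx, e.apply_symm_apply x⟩⟩
    rintro ⟨y, hy, rfl⟩
    exact (omg_congr_iff e y).2 hy))

end Similar

variable {F : Type u} [Field F] [Fintype F] {a b : F}
  (hab : ∀ z₁ z₂ : F, z₁ ^ 2 + a * z₁ * z₂ + b * z₂ ^ 2 = 0 → z₁ = 0 ∧ z₂ = 0)
include hab

/-- Every order in dimension nine is hit in dimension eight. -/
theorem hit_nine (p : ℕ) [Fact p.Prime] [CharP F p] (h2 : (2 : F) ≠ 0)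
    {y : oGroup ((qMinus F 3 a b).prod (sq1 F))} (hy : y ∈ omg ((qMinus F 3 a b).prod (sq1 F))) :
    Hit (qMinus F 3 a b) (orderOf y) := by
  refine hit_of_odd p h2 (qMinus_nondeg hab 3) (by simp) ⟨4, by simp⟩ ?_ hy
  intro U x hU hd hx k m hm hord hfree
  have hd8 : finrank F U = 8 := by rw [hd]; simp
  by_cases hiso : Iso (restr ((qMinus F 3 a b).prod (sq1 F)) U) (qMinus F 3 a b)
  · obtain ⟨e, he⟩ := hiso
    exact (Hit.of_orderOf hx).congr e he
  have hs := sgn_of_not_minus hab p h2 hU hd8 hiso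
  obtain ⟨e⟩ := FiniteDimensional.nonempty_linearEquiv_of_finrank_eq (R := F) (M := U) (M' := Fin 8 → F)
    (by rw [hd8, Module.finrank_fin_fun])
  have he : ∀ z, ((restr ((qMinus F 3 a b).prod (sq1 F)) U).comp e.symm.toLinearMap) (e z) =
      restr ((qMinus F 3 a b).prod (sq1 F)) U z := fun z => congrArg (restr ((qMinus F 3 a b).prod (sq1 F)) U) (e.symm_apply_apply z)
  rw [← MulEquiv.orderOf_eq (oCongr e he) x]
  refine plus_bound p h2 (nondeg_congr e he hU) (hs.congr e he) ((omg_congr_iff _ x).2 hx) hm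
    (by rw [MulEquiv.orderOf_eq, hord]) (fun z hz => ?_) (targets p h2 hab)
  rw [← map_pow] at hz
  change e ((x ^ p ^ k).1 (e.symm z)) = z at hz
  have h := hfree (e.symm z) (e.eq_symm_apply.2 hz)
  rw [← e.apply_symm_apply z, h, map_zero]

/-- Omega in dimension nine and the extension in dimension eight have the same element orders. -/
theorem range_eq (h2 : (2 : F) ≠ 0) {G : Type*} [Group G]
    (φ : G →* MulAut (Multiplicative ((Fin 3 ⊕ Fin 3) ⊕ Fin 2 → F))) (ψ : G ≃* omg (qMinus F 3 a b))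
    (hφ : ∀ g v, Multiplicative.toAdd (φ g (Multiplicative.ofAdd v)) = (ψ g).1.1 v) :
    Set.range (orderOf : omg ((qMinus F 3 a b).prod (sq1 F)) → ℕ) =
      Set.range (orderOf : Multiplicative ((Fin 3 ⊕ Fin 3) ⊕ Fin 2 → F) ⋊[φ] G → ℕ) := by
  obtain ⟨p, hchar⟩ := CharP.exists F
  haveI := hchar
  haveI : Fact p.Prime := ⟨CharP.char_is_prime F p⟩
  haveI := finite_oGroup (qMinus F 3 a b)
  haveI := finite_oGroup ((qMinus F 3 a b).prod (sq1 F))
  haveI : Finite G := Finite.of_equiv _ ψ.symm.toEquiv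
  haveI : Finite (Multiplicative ((Fin 3 ⊕ Fin 3) ⊕ Fin 2 → F) ⋊[φ] G) :=
    Finite.of_equiv _ SemidirectProduct.equivProd.symm
  have hpow : ∀ (x : Multiplicative ((Fin 3 ⊕ Fin 3) ⊕ Fin 2 → F) ⋊[φ] G) (i : ℕ), (x ^ i).right = x.right ^ i ∧
      Multiplicative.toAdd (x ^ i).left =
        ∑ j ∈ Finset.range i, ((ψ x.right).1 ^ j).1 (Multiplicative.toAdd x.left) := by
    intro x i
    induction i with
    | zero => exact ⟨by rw [pow_zero, pow_zero, SemidirectProduct.one_right], by simp⟩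
    | succ i ih =>
      refine ⟨by rw [pow_succ, SemidirectProduct.mul_right, ih.1, pow_succ], ?_⟩
      rw [pow_succ, SemidirectProduct.mul_left, toAdd_mul, ih.2, ih.1, Finset.sum_range_succ,
        ← ofAdd_toAdd x.left, hφ, map_pow, toAdd_ofAdd, SubgroupClass.coe_pow]
  have hone : ∀ (x : Multiplicative ((Fin 3 ⊕ Fin 3) ⊕ Fin 2 → F) ⋊[φ] G) (i : ℕ), x ^ i = 1 ↔
      ((ψ x.right).1 ^ i = 1 ∧ ∑ j ∈ Finset.range i, ((ψ x.right).1 ^ j).1 (Multiplicative.toAdd x.left) = 0) := by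
    intro x i
    rw [SemidirectProduct.ext_iff, (hpow x i).1, SemidirectProduct.one_left, SemidirectProduct.one_right,
      ← (Multiplicative.toAdd).injective.eq_iff, (hpow x i).2, toAdd_one, and_comm, ← ψ.injective.eq_iff, map_pow,
      map_one, ← Subtype.coe_injective.eq_iff, SubgroupClass.coe_pow, OneMemClass.coe_one]
  ext n
  constructor
  · rintro ⟨y, rfl⟩
    obtain ⟨g, hg, v, hv⟩ := hit_nine hab p h2 y.2
    let x : Multiplicative ((Fin 3 ⊕ Fin 3) ⊕ Fin 2 → F) ⋊[φ] G := ⟨Multiplicative.ofAdd v, ψ.symm ⟨g, hg⟩⟩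
    have hx : ψ x.right = ⟨g, hg⟩ := ψ.apply_symm_apply _
    obtain ⟨h1, h3⟩ := (hone x (orderOf x)).1 (pow_orderOf_eq_one x)
    rw [hx] at h1 h3
    have hd : orderOf y ∣ orderOf x := by
      rw [← orderOf_injective (omg _).subtype Subtype.coe_injective y]
      exact hv _ h1 h3
    exact ⟨x ^ (orderOf x / orderOf y), orderOf_pow_orderOf_div (orderOf_pos x).ne' hd⟩
  · rintro ⟨x, rfl⟩
    obtain ⟨y, hy, h1, h3⟩ := exists_odd p h2 (qMinus_nondeg hab 3) (by simp) ⟨4, by simp⟩ (ψ x.right).2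
      (Multiplicative.toAdd x.left)
    have hd : orderOf x ∣ orderOf (⟨y, hy⟩ : omg ((qMinus F 3 a b).prod (sq1 F))) := by
      rw [← orderOf_injective (omg _).subtype Subtype.coe_injective ⟨y, hy⟩]
      exact orderOf_dvd_of_pow_eq_one ((hone x _).2 ⟨h1, h3⟩)
    exact ⟨_, orderOf_pow_orderOf_div (orderOf_pos _).ne' hd⟩

omit hab in
theorem orderOf_range_congr {G H : Type*} [Group G] [Group H] (e : G ≃* H) :
    Set.range (orderOf : H → ℕ) = Set.range (orderOf : G → ℕ) := by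
  ext o
  exact ⟨fun ⟨h, hh⟩ => ⟨e.symm h, by rw [e.symm.orderOf_eq, hh]⟩, fun ⟨g, hg⟩ => ⟨e g, by rw [e.orderOf_eq, hg]⟩⟩

/-- The projective group in dimension nine. -/
theorem range_pomega (h2 : (2 : F) ≠ 0) : Set.range (orderOf : Cfsg.POmega F (⇑(qOdd F 4)) → ℕ) =
    Set.range (orderOf : omg ((qMinus F 3 a b).prod (sq1 F)) → ℕ) := by
  have hQ := qOdd_nondeg h2 (F := F) 4
  have hn : 7 ≤ Fintype.card (Unit ⊕ (Fin 4 ⊕ Fin 4)) := by simp
  have hc : Subgroup.center ↥(Cfsg.Omega F (⇑(qOdd F 4))) = ⊥ :=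
    Subgroup.card_eq_one.1 (card_center_one hQ hn (Or.inr ⟨4, by simp⟩))
  obtain ⟨e₁⟩ : Nonempty ((Unit ⊕ (Fin 4 ⊕ Fin 4) → F) ≃ₗ[F] (Fin 9 → F)) :=
    FiniteDimensional.nonempty_linearEquiv_of_finrank_eq (by simp)
  obtain ⟨e₂⟩ : Nonempty ((((Fin 3 ⊕ Fin 3) ⊕ Fin 2 → F) × F) ≃ₗ[F] (Fin 9 → F)) :=
    FiniteDimensional.nonempty_linearEquiv_of_finrank_eq (by simp)
  have s₁ : ∀ x, ((qOdd F 4).comp e₁.symm.toLinearMap) (e₁ x) = qOdd F 4 x :=
    fun x => congrArg (qOdd F 4) (e₁.symm_apply_apply x)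
  have hW := nondeg_prod (qMinus_nondeg hab 3) (sq1_nondeg (F := F) h2)
  have s₂ : ∀ x, (((qMinus F 3 a b).prod (sq1 F)).comp e₂.symm.toLinearMap) (e₂ x) = (qMinus F 3 a b).prod (sq1 F) x :=
    fun x => congrArg ((qMinus F 3 a b).prod (sq1 F)) (e₂.symm_apply_apply x)
  obtain ⟨g, c, hc0, hg⟩ := exists_similarity h2 (n := 9) (by decide) _ _ (nondeg_congr e₁ s₁ hQ) (nondeg_congr e₂ s₂ hW)
  let E := simEquiv (Q := qOdd F 4) (R := (qMinus F 3 a b).prod (sq1 F)) (e₁.trans (g.trans e₂.symm)) hc0 fun x => by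
    rw [← s₁ x, ← hg]
    rfl
  exact orderOf_range_congr (((QuotientGroup.quotientMulEquivOfEq hc).trans QuotientGroup.quotientBot).trans
    ((omegaEquiv (qOdd F 4)).trans (omgEquiv E))).symm

end Cfsg.Agent.OddOrth
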